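import Cfsg.Agent.Lib.Walter.JR.LT.Weight
import Cfsg.Agent.Lib.Fusion.SolvableBalance
import Cfsg.Agent.Lib.Local.FS.RankThreeNormal.Coprime
import Mathlib.GroupTheory.SchurZassenhaus
import Cfsg.Agent.Lib.Solv.Cores
import Cfsg.Agent.Lib.Char.ReeOrder.LocalRankTwo

/-!
# The centraliser of `y` modulo its core

`C` is solvable with `O_l'(C) = 1`, `y` central, `σ` of odd prime order `d` fixes `f` and has weight `m` on `y`, the
`l`-elements commuting with `f` lie in `⟨f, y⟩` and no power of `f` is conjugate to another one.  Then `C` is an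
`l`-group `T ⟨f⟩`.
-/

set_option autoImplicit false
set_option linter.unusedSectionVars false
set_option linter.style.haveILetI false

namespace Cfsg.Agent.Walter.JR.LT

open Subgroup

universe u v

/-- `s` satisfies `s² = a s + b` and `W`, on which `σ` and `σ²` fix only `1`, is normalised by it: `W` acts
trivially if `|W| b` is invertible. -/
theorem quad {W : Type u} [Group W] [Finite W] {E : Type v} [Ring E] (σ : MulAut W) (ρ : W →* E) (s : E)
    (hs : ∀ w, s * ρ w = ρ (σ w) * s) (a b : E) (ha : ∀ w, Commute a (ρ w)) (hb : ∀ w, Commute b (ρ w))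
    (hq : s * s = a * s + b) (h1 : ∀ w, σ w = w → w = 1) (h2 : ∀ w, σ (σ w) = w → w = 1)
    (hu : IsUnit ((Nat.card W : E) * b)) (w0 : W) : ρ w0 = 1 := by
  classical
  haveI := Fintype.ofFinite W
  have bij : ∀ τ : MulAut W, (∀ w, τ w = w → w = 1) → Function.Bijective fun w : W => w⁻¹ * τ w := fun τ hτ =>
    Finite.injective_iff_bijective.1 fun x z e => by
      refine (mul_inv_eq_one.1 (hτ _ ?_)).symm
      show τ (z * x⁻¹) = z * x⁻¹
      rw [map_mul, map_inv, show τ z = z * (z⁻¹ * τ z) from (mul_inv_cancel_left _ _).symm,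
        show τ x = x * (z⁻¹ * τ z) by rw [← show x⁻¹ * τ x = z⁻¹ * τ z from e, mul_inv_cancel_left], mul_inv_rev]
      group
  let S : E := ∑ w, ρ w
  have sum1 : ∑ x, ρ (x⁻¹ * σ x) = S := Equiv.sum_comp (Equiv.ofBijective _ (bij σ h1)) fun w => ρ w
  have sum2 : ∑ x, ρ (x⁻¹ * (σ * σ) x) = S :=
    Equiv.sum_comp (Equiv.ofBijective _ (bij (σ * σ) fun w hw => h2 w hw)) fun w => ρ w
  have key : ∀ x, ρ (x⁻¹ * (σ * σ) x) * (s * s) = a * (ρ (x⁻¹ * σ x) * s) + b := by
    intro x
    have e : ρ (x⁻¹ * σ x) * s = ρ x⁻¹ * s * ρ x := by rw [map_mul, mul_assoc, ← hs, mul_assoc]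
    have hxx : ρ x⁻¹ * ρ x = 1 := by rw [← map_mul, inv_mul_cancel, map_one]
    calc ρ (x⁻¹ * (σ * σ) x) * (s * s) = ρ x⁻¹ * (s * s) * ρ x := by
          rw [map_mul, MulAut.mul_apply, mul_assoc, mul_assoc, mul_assoc, hs, ← mul_assoc s, hs, mul_assoc]
      _ = a * (ρ (x⁻¹ * σ x) * s) + b := by
          rw [hq, mul_add, add_mul, e, ← mul_assoc (ρ x⁻¹) a s, ← (ha x⁻¹).eq, mul_assoc (a * ρ x⁻¹),
            mul_assoc a, ← mul_assoc (ρ x⁻¹) s, ← (hb x⁻¹).eq, mul_assoc b, hxx, mul_one]
  have hsum := Finset.sum_congr (rfl : Finset.univ = (Finset.univ : Finset W)) fun x _ => key x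
  rw [← Finset.sum_mul, sum2, Finset.sum_add_distrib, ← Finset.mul_sum, ← Finset.sum_mul, sum1, Finset.sum_const,
    Finset.card_univ, nsmul_eq_mul, ← Nat.card_eq_fintype_card, hq, mul_add, ← mul_assoc S a s] at hsum
  have hSa : S * a = a * S := ((Commute.sum_right Finset.univ _ a fun w _ => ha w) : Commute a S).eq.symm
  rw [hSa, mul_assoc a S, add_right_inj] at hsum
  -- `ρ w₀ S = S`
  have hwS : (ρ w0 - 1) * S = 0 := by
    rw [sub_mul, one_mul, sub_eq_zero, Finset.mul_sum]
    simp only [← map_mul]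
    exact Equiv.sum_comp (Equiv.mulLeft w0) fun w => ρ w
  have h0 : (ρ w0 - 1) * ((Nat.card W : E) * b) = 0 := by
    rw [← hsum, ← mul_assoc, hwS, zero_mul]
  exact sub_eq_zero.1 (hu.mul_left_eq_zero.1 h0)

/-- The hypothesis on `C`, `σ`, `f`, `y`. -/
structure CHyp (C : Type u) [Group C] (l d m : ℕ) (σ : MulAut C) (f y : C) : Prop where
  sol : Group.IsSolvable C
  core : Cfsg.pPrimeCore l C = ⊥
  d2 : d ≠ 2
  hσ : σ ^ d = 1
  hm : ∀ x : C, (∃ k, x ^ l ^ k = 1) → x ^ m ^ d = x
  σf : σ f = f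
  σy : σ y = y ^ m
  yc : y ∈ center C
  yl : orderOf y = l
  fl : ∃ k, f ^ l ^ k = 1
  nc : ∀ (c : C) (i j : ℕ), c * f ^ i * c⁻¹ = f ^ j → f ^ i = f ^ j
  cent : ∀ x, (∃ k, x ^ l ^ k = 1) → Commute f x → ∃ i j : ℕ, x = f ^ i * y ^ j

/-- The restriction of an automorphism. -/
noncomputable def restr {C : Type u} [Group C] (R : Subgroup C) (e : MulAut C) (h : R.map e.toMonoidHom = R) :
    MulAut R :=
  (e.subgroupMap R).trans (MulEquiv.subgroupCongr h)

theorem restr_apply {C : Type u} [Group C] (R : Subgroup C) (e : MulAut C) (h : R.map e.toMonoidHom = R) (x : R) :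
    ((restr R e h x : R) : C) = e x := rfl

theorem map_eq_of {C : Type u} [Group C] [Finite C] (R : Subgroup C) (e : MulAut C) (h : ∀ x ∈ R, e x ∈ R) :
    R.map e.toMonoidHom = R :=
  eq_of_le_of_card_ge (by rintro _ ⟨x, hx, rfl⟩; exact h x hx) (by rw [Subgroup.card_map_of_injective e.injective])

namespace CHyp

variable {C : Type u} [Group C] [Finite C] {l d m : ℕ} {σ : MulAut C} {f y : C} (M : MArith l d m)
  (H : CHyp C l d m σ f y)

include M H

theorem y_pow {j : ℕ} (h : (y ^ j) ^ (m - 1) = 1) : y ^ j = 1 := by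
  rw [← pow_mul, ← orderOf_dvd_iff_pow_eq_one, H.yl] at h
  rw [← orderOf_dvd_iff_pow_eq_one, H.yl]
  exact (M.hl.dvd_mul.1 h).resolve_right M.m1

theorem fixed_mem {E : Subgroup C} (hE : IsPGroup l E) (hfE : zpowers f ≤ E) (hfix : ∀ x ∈ E, σ x = x) :
    E = zpowers f := by
  haveI := Fact.mk M.hl
  refine le_antisymm ?_ hfE
  by_contra hlt
  set Fm : Subgroup E := (zpowers f).subgroupOf E with hFm
  have hne : Fm < ⊤ := lt_of_le_of_ne le_top fun h => hlt fun x hx => by
    have : (⟨x, hx⟩ : E) ∈ Fm := h ▸ mem_top _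
    exact mem_subgroupOf.1 this
  haveI := hE.isNilpotent
  obtain ⟨e, heN, he⟩ := SetLike.exists_of_lt (Group.normalizerCondition_of_isNilpotent Fm hne)
  have hf' : (⟨f, hfE (mem_zpowers f)⟩ : E) ∈ Fm := mem_subgroupOf.2 (mem_zpowers f)
  have h1 : (e : C) * f * (e : C)⁻¹ ∈ zpowers f := mem_subgroupOf.1 ((mem_normalizer_iff.1 heN _).1 hf')
  obtain ⟨j, hj⟩ := mem_powers_iff_mem_zpowers.2 h1
  have h2 := H.nc (e : C) 1 j (by rw [pow_one]; exact hj.symm)
  have hcomm : Commute f (e : C) := by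
    have hj' : f ^ j = (e : C) * f * (e : C)⁻¹ := hj
    rw [← h2, pow_one] at hj'
    exact (mul_inv_eq_iff_eq_mul.1 hj'.symm).symm
  obtain ⟨k, hk⟩ := hE e
  obtain ⟨i, j', hij⟩ := H.cent _ ⟨k, congrArg Subtype.val hk⟩ hcomm
  have h3 := hfix _ e.2
  rw [hij, map_mul, map_pow, map_pow, H.σf, H.σy, mul_right_inj] at h3
  have h4 : y ^ j' = 1 := H.y_pow M (by
    rw [← mul_right_inj (y ^ j'), ← pow_succ', Nat.sub_add_cancel (show 1 ≤ m by have := M.two; omega), mul_one,
      ← pow_mul, mul_comm, pow_mul]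
    exact h3)
  refine he (mem_subgroupOf.2 ?_)
  rw [hij, h4, mul_one]
  exact pow_mem (mem_zpowers f) i

/-- The structure of `C`. -/
theorem structure_C : IsPGroup l C ∧ (∀ x, σ x = x → x ∈ zpowers f) ∧
    ∃ T : Subgroup C, (∀ x, x ∈ T ↔ σ x = x ^ m) ∧ (∀ x ∈ T, ∀ z ∈ T, Commute x z) ∧
      ∀ x, ∃ t ∈ T, ∃ i : ℕ, x = t * f ^ i := by
  classical
  haveI := Fact.mk M.hl
  haveI := Fact.mk M.hd
  set R : Subgroup C := Cfsg.pCore l C with hRdef
  have hR : IsPGroup l R := Fusion.isPGroup_pCore l C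
  haveI hRn : R.Normal := Cfsg.Agent.Solv.pCore_normal l
  have hσR : ∀ x ∈ R, σ x ∈ R := fun x hx => Fusion.map_pCore_le (p := l) σ ⟨x, hx, rfl⟩
  have hfR : ∀ x ∈ R, f * x * f⁻¹ ∈ R := fun x hx => hRn.conj_mem x hx f
  let σR : MulAut R := restr R σ (map_eq_of R σ hσR)
  let φR : MulAut R := restr R (MulAut.conj f) (map_eq_of R (MulAut.conj f) hfR)
  have σR_apply : ∀ x : R, ((σR x : R) : C) = σ x := fun x => rfl
  have φR_apply : ∀ x : R, ((φR x : R) : C) = f * x * f⁻¹ := fun x => rfl
  have lpow : ∀ x ∈ R, ∃ k, x ^ l ^ k = 1 := fun x hx => by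
    obtain ⟨k, hk⟩ := hR ⟨x, hx⟩
    exact ⟨k, congrArg Subtype.val hk⟩
  -- the fixed points of `σ` in `R`
  have hfixR : ∀ x ∈ R, σ x = x → x ∈ zpowers f := by
    intro x hx hxs
    let L : Subgroup C := MonoidHom.eqLocus σ.toMonoidHom (MonoidHom.id C)
    have hfn : zpowers f ≤ normalizer ((R ⊓ L : Subgroup C) : Set C) := zpowers_le.2 <|
      Cfsg.Agent.Char.ReeOrder.mem_normalizer_of_map _ fun z hz =>
        mem_inf.2 ⟨hfR z (mem_inf.1 hz).1, show σ (f * z * f⁻¹) = f * z * f⁻¹ by
          rw [map_mul, map_mul, map_inv, H.σf, show σ z = z from (mem_inf.1 hz).2]⟩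
    have hfp : IsPGroup l (zpowers f) := by
      obtain ⟨k, hk⟩ := H.fl
      obtain ⟨j, -, hj⟩ := (Nat.dvd_prime_pow M.hl).1 (orderOf_dvd_of_pow_eq_one hk)
      exact IsPGroup.of_card (n := j) (by rw [Nat.card_zpowers, hj])
    have hE := H.fixed_mem M (E := zpowers f ⊔ (R ⊓ L))
      (IsPGroup.to_sup_of_normal_right' hfp (hR.to_le inf_le_left) hfn) le_sup_left
      (fun z hz => (sup_le (zpowers_le.2 (show f ∈ L from H.σf)) inf_le_right : zpowers f ⊔ (R ⊓ L) ≤ L) hz)
    exact hE ▸ mem_sup_right (mem_inf.2 ⟨hx, hxs⟩)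
  have hyR : y ∈ R := by
    haveI : (zpowers y).Normal := ⟨fun a ha g => by
      rw [mem_center_iff.1 (zpowers_le.2 H.yc ha) g, mul_inv_cancel_right]; exact ha⟩
    exact Fusion.le_pCore (IsPGroup.of_card (n := 1) (by rw [Nat.card_zpowers, H.yl, pow_one]))
      (mem_zpowers y)
  have φfix : ∀ x : R, φR x = x → Commute f (x : C) := fun x hx => by
    have := congrArg Subtype.val hx
    rw [φR_apply] at this
    exact mul_inv_eq_iff_eq_mul.1 this
  -- the weights
  have W : WHyp R l d m σR φR :=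
    { hR := hR
      comm := fun x => Subtype.ext (by
        rw [σR_apply, φR_apply, φR_apply, σR_apply, map_mul, map_mul, map_inv, H.σf])
      hσ := by
        have key : ∀ (i : ℕ) (x : R), (((σR ^ i) x : R) : C) = (σ ^ i) x := by
          intro i
          induction i with
          | zero => intro x; rfl
          | succ i ih => intro x; rw [pow_succ', MulAut.mul_apply, σR_apply, ih, pow_succ', MulAut.mul_apply]
        exact MulEquiv.ext fun x => Subtype.ext (by rw [key, H.hσ]; rfl)
      hm := fun x => Subtype.ext (by rw [Subgroup.coe_pow]; exact H.hm _ (lpow _ x.2))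
      hφ := by
        obtain ⟨k, hk⟩ := H.fl
        have key : ∀ (i : ℕ) (x : R), (((φR ^ i) x : R) : C) = f ^ i * x * (f ^ i)⁻¹ := by
          intro i
          induction i with
          | zero => intro x; simp
          | succ i ih => intro x; rw [pow_succ', MulAut.mul_apply, φR_apply, ih, pow_succ']; group
        exact ⟨k, MulEquiv.ext fun x => Subtype.ext (by rw [key, hk]; simp)⟩
      fixσ := fun x hx => by
        obtain ⟨i, hi⟩ := mem_powers_iff_mem_zpowers.2 (hfixR _ x.2 (by rw [← σR_apply, hx]))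
        refine Subtype.ext ?_
        rw [φR_apply, ← show f ^ i = (x : C) from hi, (Commute.self_pow f i).eq, mul_inv_cancel_right]
      fix_comm := fun x z hx hz => by
        obtain ⟨i, j, e⟩ := H.cent _ (lpow _ x.2) (φfix x hx)
        obtain ⟨i', j', e'⟩ := H.cent _ (lpow _ z.2) (φfix z hz)
        refine Subtype.ext (show (x : C) * z = z * x from ?_)
        have hy : ∀ (g : C) (k : ℕ), Commute g (y ^ k) := fun g k => mem_center_iff.1 (pow_mem H.yc k) g
        rw [e, e']
        exact (((Commute.pow_pow_self f i i').mul_right (hy _ j')).mul_left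
          ((hy _ j).symm.mul_right (hy _ j').symm.symm)).eq
      fix_split := fun x hx => by
        obtain ⟨i, j, e⟩ := H.cent _ (lpow _ x.2) (φfix x hx)
        have hiR : f ^ i ∈ R := by
          have := mul_mem x.2 (inv_mem (pow_mem hyR j))
          rwa [e, mul_inv_cancel_right] at this
        refine ⟨⟨_, hiR⟩, ⟨_, pow_mem hyR j⟩, Subtype.ext e, Subtype.ext ?_, Subtype.ext ?_, Subtype.ext ?_⟩
        · rw [σR_apply]; show σ (f ^ i) = f ^ i; rw [map_pow, H.σf]
        · rw [φR_apply]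
          show f * y ^ j * f⁻¹ = y ^ j
          rw [mem_center_iff.1 (pow_mem H.yc j) f, mul_inv_cancel_right]
        · rw [σR_apply]
          show σ (y ^ j) = (y ^ j) ^ m
          rw [map_pow, H.σy, ← pow_mul, ← pow_mul, mul_comm]
      line := by
        have hmem : ∀ b : {b : R // φR b = b ∧ σR b = b ^ m}, ((b.1 : R) : C) ∈ zpowers y := by
          rintro ⟨b, hb, hbm⟩
          obtain ⟨i, j, e⟩ := H.cent _ (lpow _ b.2) (φfix b hb)
          have hiR : f ^ i ∈ R := by
            have := mul_mem b.2 (inv_mem (pow_mem hyR j))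
            rwa [e, mul_inv_cancel_right] at this
          have h1 : σ (b : C) = (b : C) ^ m := congrArg Subtype.val hbm
          rw [e, map_mul, map_pow, map_pow, H.σf, H.σy,
            (show Commute (f ^ i) (y ^ j) from mem_center_iff.1 (pow_mem H.yc j) _).mul_pow, ← pow_mul y, mul_comm m j,
            ← pow_mul y, mul_left_inj] at h1
          have h2 : (⟨f ^ i, hiR⟩ : R) = 1 := M.eq_one hR M.m1 (x := ⟨f ^ i, hiR⟩) (by
            rw [← mul_right_inj (⟨f ^ i, hiR⟩ : R), ← pow_succ', Nat.sub_add_cancel (show 1 ≤ m by have := M.two; omega),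
              mul_one]
            exact Subtype.ext h1.symm)
          show (b : C) ∈ zpowers y
          rw [e, show f ^ i = 1 from congrArg Subtype.val h2, one_mul]
          exact pow_mem (mem_zpowers y) j
        calc Nat.card {b : R // φR b = b ∧ σR b = b ^ m} ≤ Nat.card (zpowers y) :=
              Nat.card_le_card_of_injective (fun b => (⟨_, hmem b⟩ : zpowers y)) fun a b e =>
                Subtype.ext (Subtype.ext (congrArg Subtype.val e :))
          _ = l := by rw [Nat.card_zpowers, H.yl] }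
  obtain ⟨T, hT, hTc, hTd⟩ := weights M _ R σR φR rfl W
  have hdec : ∀ x : R, ∃ t ∈ T, ∃ a : R, σ (a : C) = a ∧ (a : C) ∈ zpowers f ∧ x = t * a := fun x => by
    obtain ⟨t, ht, a, ha, e⟩ := hTd x
    exact ⟨t, ht, a, by rw [← σR_apply, ha], hfixR _ a.2 (by rw [← σR_apply, ha]), e⟩
  have hCR : centralizer (R : Set C) ≤ R := Fusion.centralizer_pCore_le_of_solvable H.sol H.core
  -- `C = R`
  suffices hCtop : R = ⊤ by
    refine ⟨?_, fun x hx => hfixR x (hCtop ▸ mem_top _) hx, T.map R.subtype, fun x => ⟨?_, fun hx => ?_⟩, ?_, fun x => ?_⟩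
    · exact (hR.of_equiv (MulEquiv.subgroupCongr hCtop)).of_equiv Subgroup.topEquiv
    · rintro ⟨t, ht, rfl⟩
      exact congrArg Subtype.val ((hT t).1 ht)
    · exact ⟨⟨x, hCtop ▸ mem_top _⟩, (hT _).2 (Subtype.ext hx), rfl⟩
    · rintro _ ⟨a, ha, rfl⟩ _ ⟨b, hb, rfl⟩
      exact (hTc a ha b hb).map R.subtype
    · obtain ⟨t, ht, a, -, haf, e⟩ := hdec ⟨x, hCtop ▸ mem_top _⟩
      obtain ⟨i, hi⟩ := mem_powers_iff_mem_zpowers.2 haf
      exact ⟨(t : C), ⟨t, ht, rfl⟩, i, by rw [show f ^ i = (a : C) from hi]; exact congrArg Subtype.val e⟩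
  by_contra hne
  haveI := H.sol
  -- `W`
  have hWne : Cfsg.pPrimeCore l (C ⧸ R) ≠ ⊥ := by
    intro h0
    have h1 : centralizer ((Cfsg.pCore l (C ⧸ R)) : Set (C ⧸ R)) ≤ Cfsg.pCore l (C ⧸ R) :=
      Fusion.centralizer_pCore_le_of_solvable
        (Group.isSolvable_of_surjective (f := QuotientGroup.mk' R) (QuotientGroup.mk'_surjective R)) h0
    have h2 : Cfsg.pCore l (C ⧸ R) = ⊥ := Fusion.pCore_quotient_eq_bot
    rw [h2] at h1
    refine hne (eq_top_iff.2 fun x _ => (QuotientGroup.eq_one_iff x).1 (mem_bot.1 (h1 ?_)))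
    exact mem_centralizer_iff.2 fun z hz => by rw [show z = 1 from mem_bot.1 hz, one_mul, mul_one]
  set Wb : Subgroup (C ⧸ R) := Cfsg.pPrimeCore l (C ⧸ R) with hWb
  have hWco : (Nat.card Wb).Coprime l := Fusion.card_pPrimeCore_coprime l (C ⧸ R)
  haveI hWbn : Wb.Normal := Cfsg.Agent.Solv.pPrimeCore_normal l
  set Wf : Subgroup C := Wb.comap (QuotientGroup.mk' R) with hWf
  haveI hWfn : Wf.Normal := hWbn.comap _
  have hRW : R ≤ Wf := fun x hx => by
    rw [hWf, mem_comap, QuotientGroup.mk'_apply, (QuotientGroup.eq_one_iff x).2 hx]; exact one_mem _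
  let σb : MulAut (C ⧸ R) := QuotientGroup.congr R R σ (map_eq_of R σ hσR)
  have hσW : ∀ x ∈ Wf, σ x ∈ Wf := fun x hx =>
    Fusion.map_pPrimeCore_le (p := l) σb ⟨_, hx, rfl⟩
  -- `σ` fixes only `R`
  have hfpf : ∀ x ∈ Wf, x⁻¹ * σ x ∈ R → x ∈ R := by
    intro x hx hxs
    -- a fixed point in the coset
    obtain ⟨r0, hr0⟩ : ∃ r : R, σ (x * r) = x * r := by
      haveI := Fintype.ofFinite R
      let g : R → R := fun r => ⟨x⁻¹ * σ (x * r), by
        rw [map_mul, ← mul_assoc]; exact mul_mem hxs (hσR r r.2)⟩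
      let π : Equiv.Perm R := Equiv.ofBijective g (Finite.injective_iff_bijective.1 fun a b e =>
        Subtype.ext (mul_left_cancel (σ.injective (mul_left_cancel (congrArg Subtype.val e :)))))
      have hπ : ∀ (i : ℕ) (r : R), x * ((π ^ i) r : R) = (σ ^ i) (x * r) := by
        intro i
        induction i with
        | zero => intro r; rfl
        | succ i ih =>
          intro r
          rw [pow_succ', Equiv.Perm.mul_apply, pow_succ', MulAut.mul_apply, ← ih]
          exact mul_inv_cancel_left x _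
      obtain ⟨r, hr⟩ := Equiv.Perm.exists_fixed_point_of_prime (p := d) (n := 1) (σ := π)
        (by
          obtain ⟨j, hj⟩ := IsPGroup.iff_card.1 hR
          rw [← Nat.card_eq_fintype_card, hj]
          exact fun h => M.dl ((Nat.prime_dvd_prime_iff_eq M.hd M.hl).1 (M.hd.dvd_of_dvd_pow h)))
        (Equiv.ext fun r => Subtype.ext (mul_left_cancel (a := x) (by rw [pow_one, hπ, H.hσ]; rfl)))
      refine ⟨r, ?_⟩
      have e := congrArg (fun z : R => x * (z : C)) hr
      exact (mul_inv_cancel_left x _).symm.trans e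
    suffices hxr : x * r0 ∈ R by
      have := mul_mem hxr (inv_mem r0.2)
      rwa [mul_inv_cancel_right] at this
    generalize hw : x * (r0 : C) = w at hr0
    have hwW : w ∈ Wf := hw ▸ mul_mem hx (hRW r0.2)
    clear hw hxs hx x r0
    -- `D₀ = A₀ × K`
    set D0 : Subgroup C := Wf ⊓ MonoidHom.eqLocus σ.toMonoidHom (MonoidHom.id C) with hD0
    have memD : ∀ {z}, z ∈ D0 ↔ z ∈ Wf ∧ σ z = z := Iff.rfl
    set A : Subgroup D0 := R.subgroupOf D0 with hA
    have hcen : ∀ z ∈ D0, ∀ a ∈ R, a ∈ D0 → Commute z a := by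
      intro z hz a haR haD
      obtain ⟨i, hi⟩ := mem_powers_iff_mem_zpowers.2 (hfixR a haR (memD.1 haD).2)
      have h1 : σ (z * a * z⁻¹) = z * a * z⁻¹ := by rw [map_mul, map_mul, map_inv, (memD.1 hz).2, (memD.1 haD).2]
      obtain ⟨j, hj⟩ := mem_powers_iff_mem_zpowers.2 (hfixR _ (hRn.conj_mem a haR z) h1)
      change f ^ i = a at hi
      change f ^ j = z * a * z⁻¹ at hj
      have := H.nc z i j (by rw [hi, hj])
      rw [hi, hj, eq_comm] at this
      exact mul_inv_eq_iff_eq_mul.1 this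
    haveI hAn : A.Normal := ⟨fun a ha z => by
      have e : z * a * z⁻¹ = a := Subtype.ext (by
        show (z : C) * a * (z : C)⁻¹ = a
        rw [(hcen z z.2 a (mem_subgroupOf.1 ha) a.2).eq, mul_inv_cancel_right])
      rwa [e]⟩
    have hidx : A.index.Coprime l := by
      let g : D0 →* Wb := ((QuotientGroup.mk' R).comp D0.subtype).codRestrict Wb fun z => (memD.1 z.2).1
      have hk : g.ker = A := by
        ext z
        rw [MonoidHom.mem_ker, hA, mem_subgroupOf, ← QuotientGroup.eq_one_iff]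
        exact ⟨fun h => congrArg Subtype.val h, fun h => Subtype.ext h⟩
      rw [← hk, Subgroup.index_ker]
      exact Nat.Coprime.coprime_dvd_left (Subgroup.card_subgroup_dvd_card g.range) hWco
    have hAco : (Nat.card A).Coprime A.index := by
      obtain ⟨j, hj⟩ := IsPGroup.iff_card.1 (hR.to_le (show A.map D0.subtype ≤ R by
        rintro _ ⟨a, ha, rfl⟩; exact mem_subgroupOf.1 ha))
      rw [Subgroup.card_map_of_injective D0.subtype_injective] at hj
      rw [hj]
      exact Nat.Coprime.pow_left j hidx.symm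
    obtain ⟨K, hK⟩ := Subgroup.exists_right_complement'_of_coprime hAco
    have hKcard : Nat.card K = A.index := hK.symm.index_eq_card.symm
    set n := A.index
    have memK : ∀ z : D0, z ∈ K ↔ z ^ n = 1 := by
      intro z
      constructor
      · intro hz
        have := (K.orderOf_dvd_natCard hz).trans hKcard.dvd
        exact orderOf_dvd_iff_pow_eq_one.1 this
      · intro hz
        obtain ⟨⟨a, k⟩, hak⟩ := hK.2 z
        change (a : D0) * k = z at hak
        have hc : Commute (a : D0) k :=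
          Subtype.ext (hcen _ (k : D0).2 _ (mem_subgroupOf.1 a.2) (a : D0).2).symm.eq
        have hkn : (k : D0) ^ n = 1 :=
          orderOf_dvd_iff_pow_eq_one.1 ((K.orderOf_dvd_natCard k.2).trans hKcard.dvd)
        rw [← hak, hc.mul_pow, hkn, mul_one] at hz
        have ha1 : (a : D0) = 1 := orderOf_eq_one_iff.1 (Nat.eq_one_of_dvd_coprimes hAco
          (A.orderOf_dvd_natCard a.2) (orderOf_dvd_of_pow_eq_one hz))
        rw [← hak, ha1, one_mul]
        exact k.2
    -- conjugation on `T`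
    have hconjT : ∀ g : C, σ g = g → ∀ t ∈ T,
        (⟨g * (t : C) * g⁻¹, hRn.conj_mem _ t.2 g⟩ : R) ∈ T := fun g hg t ht => (hT _).2 (Subtype.ext (by
      show σ (g * (t : C) * g⁻¹) = (g * (t : C) * g⁻¹) ^ m
      rw [map_mul, map_mul, map_inv, hg, conj_pow,
        show σ (t : C) = (t : C) ^ m from congrArg Subtype.val ((hT t).1 ht)]))
    haveI := Fintype.ofFinite K
    letI : CommGroup T :=
      { (inferInstance : Group T) with mul_comm := fun a b => Subtype.ext (hTc _ a.2 _ b.2).eq }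
    let cj : D0 → T → T := fun g t => ⟨⟨(g : C) * (t : C) * (g : C)⁻¹, hRn.conj_mem _ (t : R).2 g⟩,
      hconjT g (memD.1 g.2).2 t t.2⟩
    let Nm : T →* T := MonoidHom.mk' (fun t => ∏ k : K, cj k t) fun a b => by
      rw [← Finset.prod_mul_distrib]
      refine Finset.prod_congr rfl fun k _ => Subtype.ext (Subtype.ext ?_)
      show ((k : D0) : C) * ((a : C) * b) * ((k : D0) : C)⁻¹ =
        ((k : D0) : C) * (a : C) * ((k : D0) : C)⁻¹ * (((k : D0) : C) * (b : C) * ((k : D0) : C)⁻¹)
      group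
    let cf : T → T := fun t => ⟨⟨f * (t : C) * f⁻¹, hfR _ (t : R).2⟩, hconjT f H.σf t t.2⟩
    have hNcf : ∀ t, Nm (cf t) = cf (Nm t) := by
      intro t
      have hKf : ∀ k : K, (⟨f⁻¹ * ((k : D0) : C) * f, memD.2 ⟨by
          simpa using hWfn.conj_mem _ (memD.1 (k : D0).2).1 f⁻¹,
          by rw [map_mul, map_mul, map_inv, H.σf, (memD.1 (k : D0).2).2]⟩⟩ : D0) ∈ K := fun k => (memK _).2 (Subtype.ext (by
        have hk := congrArg Subtype.val ((memK _).1 k.2)
        simp only [Subgroup.coe_pow, Subgroup.coe_one] at hk ⊢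
        rw [show f⁻¹ * ((k : D0) : C) * f = f⁻¹ * ((k : D0) : C) * f⁻¹⁻¹ by group, conj_pow, hk]
        group))
      let e : K ≃ K := Equiv.ofBijective (fun k => ⟨_, hKf k⟩) (Finite.injective_iff_bijective.1 fun a b h => by
        have := congrArg (fun z : K => ((z : D0) : C)) h
        simp only at this
        exact Subtype.ext (Subtype.ext (mul_left_cancel (mul_right_cancel this))))
      let cfh : T →* T := MonoidHom.mk' cf fun a b => Subtype.ext (Subtype.ext (by
        show f * ((a : C) * b) * f⁻¹ = f * (a : C) * f⁻¹ * (f * (b : C) * f⁻¹)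
        group))
      show ∏ k : K, cj k (cf t) = cfh (∏ k : K, cj k t)
      rw [map_prod, ← Equiv.prod_comp e fun k => cfh (cj k t)]
      refine Finset.prod_congr rfl fun k _ => Subtype.ext (Subtype.ext ?_)
      show ((k : D0) : C) * (f * (t : C) * f⁻¹) * ((k : D0) : C)⁻¹ =
        f * ((f⁻¹ * ((k : D0) : C) * f) * (t : C) * (f⁻¹ * ((k : D0) : C) * f)⁻¹) * f⁻¹
      group
    have hker : Nm.ker = ⊥ := by
      by_contra hne'
      haveI : Nontrivial Nm.ker := (Subgroup.nontrivial_iff_ne_bot _).2 hne'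
      haveI := Fintype.ofFinite Nm.ker
      let π : Equiv.Perm Nm.ker := Equiv.ofBijective (fun t => ⟨cf t, by
          rw [MonoidHom.mem_ker, hNcf, show Nm t = 1 from t.2]
          exact Subtype.ext (Subtype.ext (by show f * (1 : C) * f⁻¹ = 1; group))⟩)
        (Finite.injective_iff_bijective.1 fun a b h => Subtype.ext (Subtype.ext (Subtype.ext
          (mul_left_cancel (mul_right_cancel (congrArg (fun z : Nm.ker => (((z : T) : R) : C)) h :))))))
      obtain ⟨k0, hk0⟩ := H.fl
      have hπ : ∀ (i : ℕ) (t : Nm.ker), ((((π ^ i) t : Nm.ker) : T) : C) = f ^ i * ((t : T) : C) * (f ^ i)⁻¹ := by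
        intro i
        induction i with
        | zero => intro t; simp
        | succ i ih =>
          intro t
          rw [pow_succ', Equiv.Perm.mul_apply]
          show f * ((((π ^ i) t : Nm.ker) : T) : C) * f⁻¹ = _
          rw [ih, pow_succ']; group
      obtain ⟨u, hu, hu1⟩ := Equiv.Perm.exists_fixed_point_of_prime' (p := l) (n := k0) (σ := π)
        (by
          have hTp : IsPGroup l Nm.ker := (hR.to_subgroup T).to_subgroup _
          obtain ⟨j, hj⟩ := IsPGroup.iff_card.1 hTp
          rw [← Nat.card_eq_fintype_card, hj]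
          refine dvd_pow_self l fun h0 => ?_
          rw [h0, pow_zero] at hj
          exact (Finite.one_lt_card (α := Nm.ker)).ne' hj)
        (Equiv.ext fun t => Subtype.ext (Subtype.ext (Subtype.ext (by rw [hπ, hk0]; simp)))) (a := 1)
        (Subtype.ext (Subtype.ext (Subtype.ext (by show f * (1 : C) * f⁻¹ = 1; group))))
      have huf : f * ((u : T) : C) * f⁻¹ = ((u : T) : C) := congrArg (fun z : Nm.ker => (((z : T) : R) : C)) hu
      obtain ⟨i, j, e⟩ := H.cent _ (lpow _ ((u : T) : R).2) (mul_inv_eq_iff_eq_mul.1 huf)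
      have hiR : f ^ i ∈ R := by
        have := mul_mem ((u : T) : R).2 (inv_mem (pow_mem hyR j))
        rwa [e, mul_inv_cancel_right] at this
      have hum : σ ((u : T) : C) = ((u : T) : C) ^ m := congrArg Subtype.val ((hT _).1 (u : T).2)
      rw [e, map_mul, map_pow, map_pow, H.σf, H.σy,
        (show Commute (f ^ i) (y ^ j) from mem_center_iff.1 (pow_mem H.yc j) _).mul_pow, ← pow_mul y, mul_comm m j,
        ← pow_mul y, mul_left_inj] at hum
      have h2 : (⟨f ^ i, hiR⟩ : R) = 1 := M.eq_one hR M.m1 (x := ⟨f ^ i, hiR⟩) (by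
        rw [← mul_right_inj (⟨f ^ i, hiR⟩ : R), ← pow_succ', Nat.sub_add_cancel (show 1 ≤ m by have := M.two; omega),
          mul_one]
        exact Subtype.ext hum.symm)
      rw [show f ^ i = 1 from congrArg Subtype.val h2, one_mul] at e
      have hfx : ∀ k : K, cj k (u : T) = u := fun k => Subtype.ext (Subtype.ext (by
        show ((k : D0) : C) * ((u : T) : C) * ((k : D0) : C)⁻¹ = ((u : T) : C)
        rw [e, mem_center_iff.1 (pow_mem H.yc j), mul_inv_cancel_right]))
      have hNu : (u : T) ^ Nat.card K = 1 := by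
        have h : Nm (u : T) = 1 := u.2
        change ∏ k : K, cj k (u : T) = 1 at h
        rw [Finset.prod_congr rfl fun k _ => hfx k, Finset.prod_const, Finset.card_univ, ← Nat.card_eq_fintype_card] at h
        exact h
      refine hu1 (Subtype.ext ?_)
      exact M.eq_one (hR.to_subgroup T) (fun h => by
        rw [hKcard] at h
        exact M.hl.one_lt.ne' (hidx.symm.eq_one_of_dvd h)) hNu
    have hKT : ∀ (k : K) (t : R), t ∈ T → Commute ((k : D0) : C) (t : C) := by
      intro k t ht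
      let t' : T := ⟨t, ht⟩
      have h1 : Nm (cj k t') = Nm t' := by
        show ∏ k' : K, cj k' (cj k t') = ∏ k' : K, cj k' t'
        rw [← Equiv.prod_comp (Equiv.mulRight k) fun k' : K => cj k' t']
        refine Finset.prod_congr rfl fun k' _ => Subtype.ext (Subtype.ext ?_)
        show ((k' : D0) : C) * (((k : D0) : C) * (t : C) * ((k : D0) : C)⁻¹) * ((k' : D0) : C)⁻¹ =
          (((k' : D0) : C) * ((k : D0) : C)) * (t : C) * (((k' : D0) : C) * ((k : D0) : C))⁻¹
        group
      have h2 : cj k t' = t' := (MonoidHom.ker_eq_bot_iff Nm).1 hker h1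
      exact mul_inv_eq_iff_eq_mul.1 (congrArg (fun z : T => ((z : R) : C)) h2 :)
    have hK1 : ∀ k : K, (k : D0) = 1 := by
      intro k
      have hkc : ((k : D0) : C) ∈ centralizer (R : Set C) := mem_centralizer_iff.2 fun r hr => by
        obtain ⟨t, ht, a, haσ, -, e⟩ := hdec ⟨r, hr⟩
        rw [show r = (t : C) * a from congrArg Subtype.val e]
        exact ((hKT k t ht).mul_right (hcen _ (k : D0).2 _ a.2 (memD.2 ⟨hRW a.2, haσ⟩))).symm.eq
      exact orderOf_eq_one_iff.1 (Nat.eq_one_of_dvd_coprimes hAco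
        (A.orderOf_dvd_natCard (mem_subgroupOf.2 (hCR hkc))) ((K.orderOf_dvd_natCard k.2).trans hKcard.dvd))
    obtain ⟨⟨a, k⟩, hak⟩ := hK.2 (⟨w, memD.2 ⟨hwW, hr0⟩⟩ : D0)
    change (a : D0) * k = _ at hak
    rw [hK1 k, mul_one] at hak
    have := mem_subgroupOf.1 a.2
    rwa [hak] at this
  -- the action on `R / Φ(R)`
  haveI : (frattini R).Normal := inferInstance
  letI : CommGroup (R ⧸ frattini R) :=
    { (inferInstance : Group (R ⧸ frattini R)) with
      mul_comm := fun a b => Cfsg.Agent.Solv.quotient_mul_comm (frattini R)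
        (Cfsg.Agent.Solv.commutatorElement_mem_frattini hR) a b }
  let q : R →* R ⧸ frattini R := QuotientGroup.mk' _
  let ev : MulAut R → AddMonoid.End (Additive (R ⧸ frattini R)) := fun γ =>
    MonoidHom.toAdditive (QuotientGroup.map _ _ γ.toMonoidHom fun x hx =>
      Local.FS.RankThreeNormal.frattini_map_mem γ hx)
  have ev_apply : ∀ (γ : MulAut R) (x : R), ev γ (Additive.ofMul (q x)) = Additive.ofMul (q (γ x)) := fun γ x => rfl
  have hqs : ∀ v : Additive (R ⧸ frattini R), ∃ x, Additive.ofMul (q x) = v := fun v =>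
    QuotientGroup.mk'_surjective (frattini R) v
  have ext_q : ∀ g g' : AddMonoid.End (Additive (R ⧸ frattini R)),
      (∀ x, g (Additive.ofMul (q x)) = g' (Additive.ofMul (q x))) → g = g' := fun g g' h =>
    DFunLike.ext _ _ fun v => by obtain ⟨x, rfl⟩ := hqs v; exact h x
  let cR : C → MulAut R := fun g => restr R (MulAut.conj g) (map_eq_of R (MulAut.conj g) fun x hx => hRn.conj_mem x hx g)
  have cR_apply : ∀ g (x : R), ((cR g x : R) : C) = g * x * g⁻¹ := fun g x => rfl
  let ρ0 : Wf →* AddMonoid.End (Additive (R ⧸ frattini R)) :=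
    { toFun := fun w => ev (cR w)
      map_one' := ext_q _ _ fun x => by
        rw [ev_apply]
        exact congrArg _ (congrArg q (Subtype.ext (by rw [cR_apply]; simp)))
      map_mul' := fun w w' => ext_q _ _ fun x => by
        show ev (cR ((w : C) * w')) (Additive.ofMul (q x)) = ev (cR w) (ev (cR w') (Additive.ofMul (q x)))
        rw [ev_apply, ev_apply, ev_apply]
        exact congrArg _ (congrArg q (Subtype.ext (by rw [cR_apply, cR_apply, cR_apply]; group))) }
  have hρR : ∀ w : Wf, w ∈ R.subgroupOf Wf → ρ0 w = 1 := fun w hw => ext_q _ _ fun x => by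
    show ev (cR w) (Additive.ofMul (q x)) = Additive.ofMul (q x)
    rw [ev_apply, show cR w x = ⟨w, mem_subgroupOf.1 hw⟩ * x * (⟨w, mem_subgroupOf.1 hw⟩ : R)⁻¹ from
      Subtype.ext rfl]
    refine congrArg Additive.ofMul ?_
    rw [map_mul, map_mul, map_inv, mul_comm (q _), mul_inv_cancel_right]
  let W' := Wf ⧸ R.subgroupOf Wf
  let ρ : W' →* AddMonoid.End (Additive (R ⧸ frattini R)) := QuotientGroup.lift _ ρ0 hρR
  let σWf : MulAut Wf := restr Wf σ (map_eq_of Wf σ hσW)
  let σW : MulAut W' := QuotientGroup.congr _ _ σWf (map_eq_of (R.subgroupOf Wf) σWf fun x hx =>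
    mem_subgroupOf.2 (hσR _ (mem_subgroupOf.1 hx)))
  let mk : Wf →* W' := QuotientGroup.mk' _
  have mks : ∀ w, ∃ x, mk x = w := fun w => QuotientGroup.mk'_surjective (R.subgroupOf Wf) w
  have hfpf' : ∀ w, σW w = w → w = 1 := by
    intro w hw
    obtain ⟨x, rfl⟩ := mks w
    have h1 : x⁻¹ * σWf x ∈ R.subgroupOf Wf := QuotientGroup.eq.1 (hw.symm :)
    exact (QuotientGroup.eq_one_iff _).2 (mem_subgroupOf.2 (hfpf _ x.2 (mem_subgroupOf.1 h1)))
  have hWcard : (Nat.card W').Coprime l := by
    let g : Wf →* Wb := ((QuotientGroup.mk' R).comp Wf.subtype).codRestrict Wb fun z => z.2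
    have hk : g.ker = R.subgroupOf Wf := by
      ext z
      rw [MonoidHom.mem_ker, mem_subgroupOf, ← QuotientGroup.eq_one_iff]
      exact ⟨fun h => congrArg Subtype.val h, fun h => Subtype.ext h⟩
    rw [show Nat.card W' = (R.subgroupOf Wf).index from rfl, ← hk, Subgroup.index_ker]
    exact Nat.Coprime.coprime_dvd_left (Subgroup.card_subgroup_dvd_card g.range) hWco
  let s : AddMonoid.End (Additive (R ⧸ frattini R)) := ev σR
  have hl0 : (l : AddMonoid.End (Additive (R ⧸ frattini R))) = 0 := ext_q _ _ fun x => by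
    rw [AddMonoid.End.natCast_apply, ← ofMul_pow, ← map_pow,
      (QuotientGroup.eq_one_iff _).2 (Cfsg.Agent.Solv.pow_mem_frattini hR x) |> fun h => (show q (x ^ l) = 1 from h)]
    rfl
  have hρ1 : ∀ w, ρ w = 1 := by
    intro w0
    refine quad σW ρ s (fun w => ?_) ((1 + m : ℕ) : AddMonoid.End (Additive (R ⧸ frattini R)))
      ((m * (l - 1) : ℕ) : AddMonoid.End (Additive (R ⧸ frattini R))) (fun w => Nat.cast_commute _ _)
      (fun w => Nat.cast_commute _ _) ?_ hfpf' (fun w hw => ?_) ?_ w0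
    · obtain ⟨x, rfl⟩ := mks w
      refine ext_q _ _ fun r => ?_
      show s (ρ0 x (Additive.ofMul (q r))) = ρ0 (σWf x) (s (Additive.ofMul (q r)))
      show ev σR (ev (cR x) _) = ev (cR (σWf x : C)) (ev σR _)
      rw [ev_apply, ev_apply, ev_apply, ev_apply]
      exact congrArg _ (congrArg q (Subtype.ext (by
        rw [σR_apply, cR_apply, cR_apply, σR_apply, map_mul, map_mul, map_inv]; rfl)))
    · refine ext_q _ _ fun x => ?_
      obtain ⟨t, ht, a, ha, -, rfl⟩ := hdec x
      show ev σR (ev σR _) = ((1 + m : ℕ) : AddMonoid.End (Additive (R ⧸ frattini R))) (ev σR _) +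
        ((m * (l - 1) : ℕ) : AddMonoid.End (Additive (R ⧸ frattini R))) _
      have hneg : ∀ v : Additive (R ⧸ frattini R), (m * (l - 1)) • v = -(m • v) := fun v =>
        eq_neg_of_add_eq_zero_left (by
          have hv : l • v = 0 := by rw [← AddMonoid.End.natCast_apply, hl0]; rfl
          rw [← add_nsmul, show m * (l - 1) + m = m * l from by
            rw [← Nat.mul_succ, show Nat.succ (l - 1) = l from Nat.succ_pred_eq_of_pos M.hl.pos],
            mul_nsmul', hv, nsmul_zero])
      rw [ev_apply, ev_apply, AddMonoid.End.natCast_apply, AddMonoid.End.natCast_apply, hneg]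
      have hσx : σR (t * a) = t ^ m * a := by
        rw [map_mul, (hT t).1 ht, show σR a = a from Subtype.ext (by rw [σR_apply, ha])]
      have hσx2 : σR (σR (t * a)) = t ^ (m * m) * a := by
        rw [hσx, map_mul, map_pow, (hT t).1 ht, ← pow_mul, show σR a = a from Subtype.ext (by rw [σR_apply, ha])]
      rw [hσx2, hσx, map_mul q, map_mul q, map_mul q, map_pow q, map_pow q, ofMul_mul, ofMul_mul, ofMul_mul, ofMul_pow, ofMul_pow,
        nsmul_add, nsmul_add, ← mul_nsmul', show (1 + m) * m = m + m * m by ring, add_nsmul, add_nsmul, one_nsmul]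
      abel
    · refine hfpf' w ?_
      obtain ⟨j, hj⟩ : ∃ j, d = 2 * j + 1 := (M.hd.odd_of_ne_two H.d2)
      have key : ∀ i, ((σW ^ 2) ^ i) w = w := by
        intro i
        induction i with
        | zero => rfl
        | succ i ih => rw [pow_succ', MulAut.mul_apply, ih, pow_two, MulAut.mul_apply, hw]
      have hWd : ∀ (i : ℕ) (x : Wf), ((σWf ^ i) x : C) = (σ ^ i) x := by
        intro i
        induction i with
        | zero => intro x; rfl
        | succ i ih =>
          intro x
          rw [pow_succ', MulAut.mul_apply, pow_succ', MulAut.mul_apply, ← ih]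
          rfl
      have hWd' : ∀ (i : ℕ) (x : Wf), (σW ^ i) (mk x) = mk ((σWf ^ i) x) := by
        intro i
        induction i with
        | zero => intro x; rfl
        | succ i ih => intro x; rw [pow_succ', MulAut.mul_apply, ih, pow_succ', MulAut.mul_apply]; rfl
      have hd1 : (σW ^ d) w = w := by
        obtain ⟨x, rfl⟩ := mks w
        rw [hWd']
        exact congrArg mk (Subtype.ext (by rw [hWd, H.hσ]; rfl))
      calc σW w = σW ((σW ^ d) w) := by rw [hd1]
        _ = ((σW ^ 2) ^ (j + 1)) w := by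
          rw [← pow_mul, ← MulAut.mul_apply, ← pow_succ', hj]
          congr 2
        _ = w := key _
    · obtain ⟨c, -, hc⟩ := Nat.exists_mul_mod_eq_of_coprime 1
        (show Nat.Coprime (Nat.card W' * (m * (l - 1))) l from Nat.Coprime.mul_left hWcard
          (Nat.Coprime.mul_left ((M.hl.coprime_iff_not_dvd).2 M.ml).symm
            ((M.hl.coprime_iff_not_dvd).2 fun h => by
              have h' := Nat.le_of_dvd (by have := M.hl.two_le; omega) h
              have := M.hl.two_le
              omega).symm)) M.hl.ne_zero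
      have e1 : ((Nat.card W' * (m * (l - 1)) * c : ℕ) : AddMonoid.End (Additive (R ⧸ frattini R))) = 1 := by
        rw [← Nat.div_add_mod (Nat.card W' * (m * (l - 1)) * c) l, Nat.cast_add, Nat.cast_mul l, hl0, zero_mul, zero_add, hc,
          Nat.mod_eq_of_lt M.hl.one_lt, Nat.cast_one]
      rw [← Nat.cast_mul]
      refine ⟨⟨_, ((c : ℕ) : AddMonoid.End (Additive (R ⧸ frattini R))), ?_, ?_⟩, rfl⟩
      · rw [← Nat.cast_mul, e1]
      · rw [← Nat.cast_mul, mul_comm c, e1]
  -- an element of prime order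
  obtain ⟨p, hp, hpd⟩ := Nat.exists_prime_and_dvd (show Nat.card Wb ≠ 1 from fun h =>
    hWne (Subgroup.eq_bot_of_card_eq Wb h))
  haveI := Fact.mk hp
  have hpl : p ≠ l := by
    rintro rfl
    exact hp.one_lt.ne' (hWco.symm.eq_one_of_dvd hpd)
  have hsurjW : Wf.map (QuotientGroup.mk' R) = Wb :=
    map_comap_eq_self_of_surjective (QuotientGroup.mk'_surjective R) Wb
  obtain ⟨x, hx⟩ := exists_prime_orderOf_dvd_card' (G := Wf) p (hpd.trans (hsurjW ▸ Subgroup.card_map_dvd _ _))
  have hγp : cR x ^ p = 1 := by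
    have key : ∀ (i : ℕ) (r : R), (((cR x ^ i) r : R) : C) = (x : C) ^ i * r * ((x : C) ^ i)⁻¹ := by
      intro i
      induction i with
      | zero => intro r; simp
      | succ i ih => intro r; rw [pow_succ', MulAut.mul_apply, cR_apply, ih, pow_succ']; group
    refine MulEquiv.ext fun r => Subtype.ext ?_
    rw [key, show (x : C) ^ p = 1 by rw [← Subgroup.coe_pow, ← hx, pow_orderOf_eq_one]; rfl]
    simp
  have hγ1 : cR x = 1 := Local.FS.RankThreeNormal.eq_one_of_trivial_frattini hR hp hpl hγp fun r => by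
    have h1 : ρ0 x (Additive.ofMul (q r)) = Additive.ofMul (q r) := by
      have h : ρ (mk x) = 1 := hρ1 _
      change ρ0 x = 1 at h
      rw [h]; rfl
    exact QuotientGroup.eq.1 (Additive.ofMul.injective h1).symm
  have hxR : (x : C) ∈ R := hCR (mem_centralizer_iff.2 fun r hr => by
    have := congrArg (fun γ : MulAut R => ((γ ⟨r, hr⟩ : R) : C)) hγ1
    simp only [cR_apply, MulAut.one_apply] at this
    exact (mul_inv_eq_iff_eq_mul.1 this).symm)
  obtain ⟨j, hj⟩ := IsPGroup.iff_orderOf.1 hR ⟨_, hxR⟩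
  rw [Subgroup.orderOf_mk, Subgroup.orderOf_coe, hx] at hj
  exact hpl ((Nat.prime_dvd_prime_iff_eq hp M.hl).1 (hp.dvd_of_dvd_pow (hj ▸ dvd_rfl : p ∣ l ^ j)))

end CHyp

end Cfsg.Agent.Walter.JR.LT
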