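import Cfsg.Agent.Lib.Walter.JR.LT.Core
import Cfsg.Agent.Lib.Solv.SZ
import Cfsg.Agent.Lib.Solv.Coprime
import Mathlib.NumberTheory.Basic
import Mathlib.FieldTheory.Finite.Basic

/-!
# The data of the `l`-theorem

`f` of order `l ^ k`, `y` of order `l` commuting with it, `h ∈ C(f)` of odd prime order `d` with `h y h⁻¹ = y ^ μ`,
no power of `f` conjugate to another one, `⟨f, y⟩` Sylow in `C(f)`, `C(y)` solvable.  Here: `C(y)` modulo its core,
the exponent of `f` on it, and its invariance under `N⟨y⟩`.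
-/

set_option autoImplicit false
set_option linter.unusedSectionVars false
set_option linter.style.haveILetI false

namespace Cfsg.Agent.Walter.JR.LT

open Subgroup

universe u

/-- An element of `l`-power order. -/
abbrev IsLel (l : ℕ) {A : Type*} [Monoid A] (x : A) : Prop := ∃ n : ℕ, x ^ l ^ n = 1

theorem IsLel.map {l : ℕ} {A B : Type*} [Monoid A] [Monoid B] (φ : A →* B) {x : A} (hx : IsLel l x) :
    IsLel l (φ x) := by
  obtain ⟨n, hn⟩ := hx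
  exact ⟨n, by rw [← map_pow, hn, map_one]⟩

theorem IsLel.conj {l : ℕ} {A : Type*} [Group A] (g : A) {x : A} (hx : IsLel l x) : IsLel l (g * x * g⁻¹) :=
  hx.map (MulAut.conj g).toMonoidHom

theorem IsLel.of_pgroup {l : ℕ} {A : Type*} [Group A] {P : Subgroup A} (hP : IsPGroup l P) {x : A} (hx : x ∈ P) :
    IsLel l x := by
  obtain ⟨n, hn⟩ := hP ⟨x, hx⟩
  exact ⟨n, congrArg Subtype.val hn⟩

/-- The data. -/
structure Dat (G : Type u) [Group G] where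
  l : ℕ
  d : ℕ
  k : ℕ
  μ : ℕ
  f : G
  y : G
  h : G
  hl : l.Prime
  hd : d.Prime
  d2 : d ≠ 2
  dl : d ≠ l
  hk : 1 ≤ k
  hf : orderOf f = l ^ k
  hy : orderOf y = l
  hfy : Commute f y
  hcap : y ∉ zpowers f
  hhf : Commute h f
  hhd : h ^ d = 1
  hhy : h * y * h⁻¹ = y ^ μ
  hμ : ¬ μ ≡ 1 [MOD l]
  nc : ∀ (g : G) (i j : ℕ), g * f ^ i * g⁻¹ = f ^ j → f ^ i = f ^ j
  hsyl : ¬ l ^ (k + 2) ∣ Nat.card (centralizer ({f} : Set G))
  hsol : Group.IsSolvable (centralizer ({y} : Set G))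

namespace Dat

variable {G : Type u} [Group G] [Finite G] (D : Dat G)

theorem mu_pow : D.μ ^ D.d ≡ 1 [MOD D.l] := by
  have key : ∀ n : ℕ, D.h ^ n * D.y * (D.h ^ n)⁻¹ = D.y ^ D.μ ^ n := by
    intro n
    induction n with
    | zero => simp
    | succ n ih =>
      rw [pow_succ' D.h, mul_inv_rev, show D.h * D.h ^ n * D.y * ((D.h ^ n)⁻¹ * D.h⁻¹) =
        D.h * (D.h ^ n * D.y * (D.h ^ n)⁻¹) * D.h⁻¹ by group, ih, ← conj_pow, D.hhy, ← pow_mul, pow_succ']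
  have h := key D.d
  rw [D.hhd, one_mul, inv_one, mul_one] at h
  conv_lhs at h => rw [← pow_one D.y]
  rw [pow_eq_pow_iff_modEq, D.hy] at h
  exact h.symm

theorem two_lt : 2 < D.l := by
  rcases D.hl.two_le.lt_or_eq with h | h
  · exact h
  · exfalso
    have h1 := D.mu_pow
    have h2 := D.hμ
    rw [← h, Nat.ModEq] at h1 h2
    have : D.μ % 2 = 0 := by omega
    rw [Nat.pow_mod, this, zero_pow D.hd.ne_zero] at h1
    norm_num at h1

/-- `m`. -/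
noncomputable def m : ℕ := D.μ ^ D.l ^ (Nat.card G).factorization D.l

theorem m_modEq : D.m ≡ D.μ [MOD D.l] := by
  haveI := Fact.mk D.hl
  rw [← ZMod.natCast_eq_natCast_iff, m, Nat.cast_pow, ZMod.pow_card_pow]

theorem marith : MArith D.l D.d D.m := by
  have hl := D.hl
  have hm0 : ¬ D.l ∣ D.μ := fun h => by
    have h1 := D.mu_pow
    rw [Nat.ModEq, Nat.mod_eq_zero_of_dvd (h.trans (dvd_pow_self _ D.hd.ne_zero)),
      Nat.mod_eq_of_lt hl.one_lt] at h1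
    exact absurd h1 (by norm_num)
  have hml : ¬ D.l ∣ D.m := fun h => hm0 ((Nat.ModEq.dvd_iff D.m_modEq dvd_rfl).1 h)
  have hm1 : ¬ D.m ≡ 1 [MOD D.l] := fun h => D.hμ (D.m_modEq.symm.trans h)
  have hm2 : 2 ≤ D.m := by
    by_contra h
    interval_cases hmm : D.m
    · exact hml (dvd_zero _)
    · exact hm1 rfl
  refine ⟨hl, D.hd, D.dl, hm2, hml, fun h => hm1 ((Nat.modEq_iff_dvd' (by omega)).2 h).symm, fun h => ?_⟩
  have h2 : D.m * D.m ≡ 1 [MOD D.l] := ((Nat.modEq_iff_dvd' (by nlinarith)).2 h).symm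
  have hμ2 : D.μ * D.μ ≡ 1 [MOD D.l] := (D.m_modEq.mul D.m_modEq).symm.trans h2
  obtain ⟨j, hj⟩ := D.hd.odd_of_ne_two D.d2
  have h3 := D.mu_pow
  rw [hj, pow_succ, pow_mul, pow_two] at h3
  refine D.hμ ?_
  have h4 := ((hμ2.pow j).mul_right D.μ).symm.trans h3
  rwa [one_pow, one_mul] at h4

theorem y_m : D.y ^ D.m = D.h * D.y * D.h⁻¹ := by
  rw [D.hhy, pow_eq_pow_iff_modEq, D.hy]
  exact D.m_modEq

theorem m_pow {A : Type u} [Group A] [Finite A] (hA : Nat.card A ∣ Nat.card G) {x : A} (hx : IsLel D.l x) :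
    x ^ D.m ^ D.d = x := by
  set N := (Nat.card G).factorization D.l
  have hmod : D.m ^ D.d ≡ 1 [MOD D.l ^ (N + 1)] := by
    have h1 : (D.l : ℤ) ∣ ((D.μ ^ D.d : ℕ) : ℤ) - 1 := Nat.modEq_iff_dvd.1 D.mu_pow.symm
    have h2 := dvd_sub_pow_of_dvd_sub h1 N
    rw [one_pow] at h2
    rw [m, ← pow_mul, mul_comm, pow_mul]
    refine (Nat.modEq_iff_dvd.2 ?_).symm
    push_cast at h2 ⊢
    exact h2
  obtain ⟨n, hn⟩ := hx
  obtain ⟨i, -, hi⟩ := (Nat.dvd_prime_pow D.hl).1 (orderOf_dvd_of_pow_eq_one hn)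
  have hdvd : D.l ^ i ∣ Nat.card G := hi ▸ (orderOf_dvd_natCard x).trans hA
  have hle := (Nat.Prime.pow_dvd_iff_le_factorization D.hl Nat.card_pos.ne').1 hdvd
  conv_rhs => rw [← pow_one x]
  rw [pow_eq_pow_iff_modEq, hi]
  exact hmod.of_dvd (pow_dvd_pow _ (by omega))

/-! ### `P₀` -/

/-- `⟨f, y⟩`. -/
def P0 : Subgroup G := zpowers D.f ⊔ zpowers D.y

theorem f_mem : D.f ∈ D.P0 := mem_sup_left (mem_zpowers _)

theorem y_mem : D.y ∈ D.P0 := mem_sup_right (mem_zpowers _)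

theorem fy_comm (i j : ℕ) : Commute (D.f ^ i) (D.y ^ j) := D.hfy.pow_pow i j

theorem mem_P0 {x : G} : x ∈ D.P0 ↔ ∃ i j : ℕ, x = D.f ^ i * D.y ^ j := by
  refine ⟨fun hx => ?_, fun ⟨i, j, e⟩ => e ▸ mul_mem (pow_mem D.f_mem i) (pow_mem D.y_mem j)⟩
  have hle : zpowers D.y ≤ normalizer (zpowers D.f : Set G) := zpowers_le.2 <|
    Cfsg.Agent.Char.ReeOrder.mem_normalizer_of_map _ fun z hz => by
      obtain ⟨i, rfl⟩ := mem_zpowers_iff.1 hz
      rw [← ((D.hfy).zpow_left i).eq, mul_inv_cancel_right]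
      exact hz
  rw [P0, ← SetLike.mem_coe, Subgroup.coe_mul_of_right_le_normalizer_left _ _ hle] at hx
  obtain ⟨a, ha, b, hb, rfl⟩ := Set.mem_mul.1 hx
  obtain ⟨i, rfl⟩ := mem_powers_iff_mem_zpowers.2 ha
  obtain ⟨j, rfl⟩ := mem_powers_iff_mem_zpowers.2 hb
  exact ⟨i, j, rfl⟩

theorem P0_comm {a b : G} (ha : a ∈ D.P0) (hb : b ∈ D.P0) : Commute a b := by
  obtain ⟨i, j, rfl⟩ := D.mem_P0.1 ha
  obtain ⟨i', j', rfl⟩ := D.mem_P0.1 hb
  exact ((Commute.pow_pow_self D.f i i').mul_right (D.fy_comm i j')).mul_left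
    ((D.fy_comm i' j).symm.mul_right (Commute.pow_pow_self D.y j j'))

theorem zpowers_inf : zpowers D.f ⊓ zpowers D.y = ⊥ := by
  haveI := Fact.mk D.hl
  rw [eq_bot_iff]
  rintro z ⟨hzf, hzy⟩
  by_contra h1
  refine D.hcap ?_
  obtain ⟨i, rfl⟩ := mem_powers_iff_mem_zpowers.2 hzy
  change D.y ^ i ∈ zpowers D.f at hzf
  have hco : Nat.Coprime i (orderOf D.y) := by
    rw [D.hy]
    exact ((D.hl.coprime_iff_not_dvd).2 fun hd => h1 (mem_bot.2 (show D.y ^ i = 1 by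
      rw [← orderOf_dvd_iff_pow_eq_one, D.hy]; exact hd))).symm
  obtain ⟨j, hj⟩ := exists_pow_eq_self_of_coprime hco
  exact hj ▸ pow_mem hzf j

theorem coord {i j i' j' : ℕ} (e : D.f ^ i * D.y ^ j = D.f ^ i' * D.y ^ j') :
    D.f ^ i = D.f ^ i' ∧ D.y ^ j = D.y ^ j' := by
  have h1 : (D.f ^ i')⁻¹ * D.f ^ i = D.y ^ j' * (D.y ^ j)⁻¹ := by
    rw [inv_mul_eq_iff_eq_mul, ← mul_assoc, ← e, mul_inv_cancel_right]
  have h2 : (D.f ^ i')⁻¹ * D.f ^ i ∈ zpowers D.f ⊓ zpowers D.y :=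
    ⟨(zpowers D.f).mul_mem ((zpowers D.f).inv_mem (pow_mem (mem_zpowers D.f) _)) (pow_mem (mem_zpowers D.f) _),
      h1 ▸ (zpowers D.y).mul_mem (pow_mem (mem_zpowers D.y) _) ((zpowers D.y).inv_mem (pow_mem (mem_zpowers D.y) _))⟩
  rw [D.zpowers_inf, mem_bot, inv_mul_eq_one] at h2
  exact ⟨h2.symm, by rw [h2] at e; exact mul_left_cancel e⟩

theorem card_P0 : Nat.card D.P0 = D.l ^ (D.k + 1) := by
  have h := Cfsg.Agent.Solv.card_sup_mul_card_inf' (zpowers D.f) (zpowers D.y) (zpowers_le.2 <|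
    Cfsg.Agent.Char.ReeOrder.mem_normalizer_of_map _ fun z hz => by
      obtain ⟨i, rfl⟩ := mem_zpowers_iff.1 hz
      rw [← ((D.hfy).zpow_left i).eq, mul_inv_cancel_right]
      exact hz)
  rw [D.zpowers_inf, Subgroup.card_bot, mul_one, Nat.card_zpowers, Nat.card_zpowers, D.hf, D.hy, ← pow_succ] at h
  exact h

theorem P0_pgroup : IsPGroup D.l D.P0 := IsPGroup.of_card D.card_P0

theorem f_lel : IsLel D.l D.f := ⟨D.k, D.hf ▸ pow_orderOf_eq_one _⟩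

theorem y_lel : IsLel D.l D.y := ⟨1, by rw [pow_one, ← D.hy, pow_orderOf_eq_one]⟩

/-- A maximality: an `l`-element normalising `P₀` inside a subgroup with `|X|_l ≤ l ^ (k + 1)` lies in `P₀`. -/
theorem mem_P0_of_norm {X : Subgroup G} (hX : ¬ D.l ^ (D.k + 2) ∣ Nat.card X) (hP : D.P0 ≤ X) {g : G} (hg : g ∈ X)
    (hgl : IsLel D.l g) (hn : g ∈ normalizer (D.P0 : Set G)) : g ∈ D.P0 := by
  haveI := Fact.mk D.hl
  have hgp : IsPGroup D.l (zpowers g) := by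
    obtain ⟨n, hn'⟩ := hgl
    obtain ⟨i, -, hi⟩ := (Nat.dvd_prime_pow D.hl).1 (orderOf_dvd_of_pow_eq_one hn')
    exact IsPGroup.of_card (n := i) (by rw [Nat.card_zpowers, hi])
  have hU : IsPGroup D.l (zpowers g ⊔ D.P0 : Subgroup G) :=
    IsPGroup.to_sup_of_normal_right' hgp D.P0_pgroup (zpowers_le.2 hn)
  obtain ⟨n, hn'⟩ := IsPGroup.iff_card.1 hU
  have hle : zpowers g ⊔ D.P0 ≤ X := sup_le (zpowers_le.2 hg) hP
  have hn2 : n ≤ D.k + 1 := by
    by_contra h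
    exact hX (((pow_dvd_pow D.l (show D.k + 2 ≤ n by omega)).trans hn'.symm.dvd).trans (card_dvd_of_le hle))
  have e : D.P0 = zpowers g ⊔ D.P0 := eq_of_le_of_card_ge le_sup_right (by
    rw [hn', D.card_P0]; exact Nat.pow_le_pow_right D.hl.pos hn2)
  rw [e]
  exact mem_sup_left (mem_zpowers g)

/-- `C(f)`. -/
abbrev Cf : Subgroup G := centralizer ({D.f} : Set G)

theorem P0_le_Cf : D.P0 ≤ D.Cf := fun _ hx => mem_centralizer_singleton_iff.2 (D.P0_comm hx D.f_mem).eq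

theorem mem_P0_of_comm {g : G} (hgl : IsLel D.l g) (hf : Commute g D.f) (hy : Commute g D.y) : g ∈ D.P0 := by
  refine D.mem_P0_of_norm D.hsyl D.P0_le_Cf (mem_centralizer_singleton_iff.2 hf.eq) hgl
    (Cfsg.Agent.Char.ReeOrder.mem_normalizer_of_map _ fun z hz => ?_)
  obtain ⟨i, j, rfl⟩ := D.mem_P0.1 hz
  rw [((hf.pow_right i).mul_right (hy.pow_right j)).eq, mul_inv_cancel_right]
  exact hz

/-! ### `C(y)` modulo its core -/

/-- `C(y)`. -/
abbrev C0 : Subgroup G := centralizer ({D.y} : Set G)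

theorem mem_C0 {x : G} : x ∈ D.C0 ↔ Commute x D.y := mem_centralizer_singleton_iff

theorem P0_le_C0 : D.P0 ≤ D.C0 := fun _ hx => D.mem_C0.2 (D.P0_comm hx D.y_mem)

/-- The core. -/
abbrev O : Subgroup D.C0 := Cfsg.pPrimeCore D.l D.C0

/-- `C(y) / O`. -/
abbrev Q : Type u := D.C0 ⧸ D.O

/-- The projection. -/
abbrev pr : D.C0 →* D.Q := QuotientGroup.mk' D.O

theorem pr_inj {a : D.C0} (ha : IsLel D.l a) (h : D.pr a = 1) : a = 1 := by
  haveI := Fact.mk D.hl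
  obtain ⟨n, hn⟩ := ha
  refine orderOf_eq_one_iff.1 (Nat.eq_one_of_dvd_coprimes ?_ (orderOf_dvd_of_pow_eq_one hn)
    (D.O.orderOf_dvd_natCard ((QuotientGroup.eq_one_iff a).1 h)))
  exact ((Fusion.card_pPrimeCore_coprime D.l D.C0).symm).pow_left n

/-- `l`-elements with the same image are conjugate. -/
theorem lift {a b : D.C0} (ha : IsLel D.l a) (hb : IsLel D.l b) (h : D.pr a = D.pr b) :
    ∃ o : D.C0, D.pr o = 1 ∧ o * a * o⁻¹ = b := by
  haveI := Fact.mk D.hl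
  have hord : ∀ {x : D.C0}, IsLel D.l x → orderOf (D.pr x) = orderOf x := fun {x} hx => by
    refine Nat.dvd_antisymm (orderOf_map_dvd _ x) (orderOf_dvd_of_pow_eq_one (D.pr_inj ?_ ?_))
    · obtain ⟨n, hn⟩ := hx
      exact ⟨n, by rw [← pow_mul, mul_comm, pow_mul, hn, one_pow]⟩
    · rw [map_pow, pow_orderOf_eq_one]
  have hzO : zpowers a ≤ normalizer (D.O : Set D.C0) := fun x _ => by
    rw [Subgroup.normalizer_eq_top]; exact mem_top x
  have hle : zpowers b ≤ D.O ⊔ zpowers a := by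
    rw [zpowers_le]
    have hm : b * a⁻¹ ∈ D.O := (QuotientGroup.eq_one_iff _).1
      (show D.pr (b * a⁻¹) = 1 by rw [map_mul, map_inv, h, mul_inv_cancel])
    simpa using mul_mem (mem_sup_left hm : _ ∈ D.O ⊔ zpowers a) (mem_sup_right (mem_zpowers a))
  obtain ⟨n, hn⟩ := ha
  have hco : (Nat.card D.O).Coprime (Nat.card (zpowers a)) := by
    rw [Nat.card_zpowers]
    exact ((Fusion.card_pPrimeCore_coprime D.l D.C0).pow_right n).coprime_dvd_right (orderOf_dvd_of_pow_eq_one hn)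
  obtain ⟨o, ho, he⟩ := Solv.sz_conj_rel D.O (zpowers a) (zpowers b) hzO hle hco
    (by rw [Nat.card_zpowers, Nat.card_zpowers, ← hord hb, ← hord ⟨n, hn⟩, h])
    (Or.inr (Group.isSolvable_of_comm fun x z => Subtype.ext (by
      obtain ⟨i, hi⟩ := mem_zpowers_iff.1 x.2
      obtain ⟨j, hj⟩ := mem_zpowers_iff.1 z.2
      show (x : D.C0) * z = z * x
      rw [← hi, ← hj, ← zpow_add, ← zpow_add, add_comm])))
  have hob : o * a * o⁻¹ ∈ zpowers b := he ▸ ⟨a, mem_zpowers a, rfl⟩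
  refine ⟨o, (QuotientGroup.eq_one_iff o).2 ho, ?_⟩
  obtain ⟨i, hi⟩ := mem_powers_iff_mem_zpowers.2 hob
  change b ^ i = o * a * o⁻¹ at hi
  have hpr : D.pr (b ^ i) = D.pr b := by
    rw [hi, map_mul, map_mul, map_inv, show D.pr o = 1 from (QuotientGroup.eq_one_iff o).2 ho, inv_one, one_mul,
      mul_one, h]
  rw [← hi]
  rw [map_pow] at hpr
  conv_rhs at hpr => rw [← pow_one (D.pr b)]
  rw [pow_eq_pow_iff_modEq, hord hb, ← pow_eq_pow_iff_modEq, pow_one] at hpr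
  exact hpr

theorem h_norm (x : G) (hx : x ∈ D.C0) : D.h * x * D.h⁻¹ ∈ D.C0 := by
  haveI := Fact.mk D.hl
  have h1 : Commute (D.h * x * D.h⁻¹) (D.h * D.y * D.h⁻¹) := (D.mem_C0.1 hx).map (MulAut.conj D.h).toMonoidHom
  rw [← D.y_m] at h1
  obtain ⟨c, hc⟩ := exists_pow_eq_self_of_coprime (x := D.y) (n := D.m) (by
    rw [D.hy]; exact ((D.hl.coprime_iff_not_dvd).2 D.marith.ml).symm)
  exact D.mem_C0.2 (hc ▸ h1.pow_right c)

/-- Conjugation by `h` on `C(y)`. -/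
noncomputable def conjC : MulAut D.C0 := restr D.C0 (MulAut.conj D.h) (map_eq_of _ _ D.h_norm)

theorem O_char : D.O.map D.conjC.toMonoidHom = D.O := Fusion.map_pPrimeCore_equiv D.conjC

/-- `σ`. -/
noncomputable def sig : MulAut D.Q := QuotientGroup.congr D.O D.O D.conjC D.O_char

theorem sig_pr (x : D.C0) : D.sig (D.pr x) = D.pr ⟨D.h * x * D.h⁻¹, D.h_norm x x.2⟩ := rfl

/-- The image of `f`. -/
noncomputable abbrev fQ : D.Q := D.pr ⟨D.f, D.P0_le_C0 D.f_mem⟩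

/-- The image of `y`. -/
noncomputable abbrev yQ : D.Q := D.pr ⟨D.y, D.P0_le_C0 D.y_mem⟩

theorem lel_C0 {x : G} (hx : x ∈ D.C0) (h : IsLel D.l x) : IsLel D.l (⟨x, hx⟩ : D.C0) := by
  obtain ⟨n, hn⟩ := h
  exact ⟨n, Subtype.ext hn⟩

theorem lel_G {x : D.C0} (h : IsLel D.l x) : IsLel D.l (x : G) := h.map D.C0.subtype

/-- Powers of `f` with conjugate images are equal. -/
theorem nc_pr {c : D.C0} {i j : ℕ} (e : D.pr c * D.fQ ^ i * (D.pr c)⁻¹ = D.fQ ^ j) : D.f ^ i = D.f ^ j := by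
  rw [← map_pow, ← map_pow, ← map_inv, ← map_mul, ← map_mul] at e
  have hl : ∀ n : ℕ, IsLel D.l ((⟨D.f, D.P0_le_C0 D.f_mem⟩ : D.C0) ^ n) := fun n => by
    obtain ⟨a, ha⟩ := D.f_lel
    exact ⟨a, Subtype.ext (by
      show ((D.f : G) ^ n) ^ D.l ^ a = 1
      rw [← pow_mul, mul_comm, pow_mul, ha, one_pow])⟩
  obtain ⟨o, -, ho⟩ := D.lift ((hl i).conj c) (hl j) e
  refine D.nc ((o : G) * c) i j ?_
  have := congrArg Subtype.val ho
  simp only [Subgroup.coe_mul, Subgroup.coe_inv, Subgroup.coe_pow] at this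
  rw [← this]; group

theorem chyp : CHyp D.Q D.l D.d D.m D.sig D.fQ D.yQ := by
  haveI := Fact.mk D.hl
  refine
    { sol := ?_, core := Fusion.pPrimeCore_quotient_eq_bot, d2 := D.d2, hσ := ?_, hm := fun x hx => ?_, σf := ?_, σy := ?_
      yc := ?_, yl := ?_, fl := ?_, nc := ?_, cent := ?_ }
  · haveI := D.hsol
    exact Group.isSolvable_of_surjective (f := D.pr) (QuotientGroup.mk'_surjective D.O)
  · refine MulEquiv.ext fun q => ?_
    obtain ⟨x, rfl⟩ := QuotientGroup.mk'_surjective D.O q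
    have key : ∀ (i : ℕ), (D.sig ^ i) (D.pr x) = D.pr ((D.conjC ^ i) x) := by
      intro i
      induction i with
      | zero => rfl
      | succ i ih => rw [pow_succ', MulAut.mul_apply, ih, pow_succ', MulAut.mul_apply]; rfl
    have key2 : ∀ (i : ℕ), (((D.conjC ^ i) x : D.C0) : G) = D.h ^ i * x * (D.h ^ i)⁻¹ := by
      intro i
      induction i with
      | zero => simp
      | succ i ih =>
        rw [pow_succ', MulAut.mul_apply]
        show D.h * (((D.conjC ^ i) x : D.C0) : G) * D.h⁻¹ = _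
        rw [ih, pow_succ']; group
    rw [key]
    exact congrArg D.pr (Subtype.ext (by rw [key2, D.hhd]; simp))
  · exact D.m_pow ((D.O.card_quotient_dvd_card).trans (Subgroup.card_subgroup_dvd_card _)) hx
  · rw [D.sig_pr]
    exact congrArg D.pr (Subtype.ext (show D.h * D.f * D.h⁻¹ = D.f by rw [D.hhf.eq, mul_inv_cancel_right]))
  · rw [D.sig_pr, ← map_pow]
    exact congrArg D.pr (Subtype.ext D.y_m.symm)
  · refine mem_center_iff.2 fun q => ?_
    obtain ⟨x, rfl⟩ := QuotientGroup.mk'_surjective D.O q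
    rw [← map_mul, ← map_mul]
    exact congrArg D.pr (Subtype.ext (D.mem_C0.1 x.2).eq)
  · refine orderOf_eq_prime ?_ fun e => ?_
    · rw [← map_pow, ← map_one D.pr]
      exact congrArg D.pr (Subtype.ext (by rw [Subgroup.coe_pow, ← D.hy, pow_orderOf_eq_one]; rfl))
    · have h1 := congrArg Subtype.val (D.pr_inj (D.lel_C0 _ D.y_lel) e)
      have h2 := D.hy
      rw [show D.y = 1 from h1, orderOf_one] at h2
      exact D.hl.one_lt.ne h2
  · exact (D.lel_C0 _ D.f_lel).map D.pr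
  · intro c i j e
    obtain ⟨x, rfl⟩ := QuotientGroup.mk'_surjective D.O c
    have := D.nc_pr (c := x) e
    rw [← map_pow, ← map_pow]
    exact congrArg D.pr (Subtype.ext this)
  · intro q hq hqf
    obtain ⟨c, rfl⟩ := QuotientGroup.mk'_surjective D.O q
    set fC : D.C0 := ⟨D.f, D.P0_le_C0 D.f_mem⟩ with hfC
    have hfl : IsLel D.l fC := D.lel_C0 _ D.f_lel
    obtain ⟨o, ho, hoc⟩ := D.lift (hfl.conj c) hfl (by
      rw [map_mul, map_mul, map_inv, ← hqf.eq, mul_inv_cancel_right])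
    have hc' : Commute (o * c) fC := by
      rw [show o * (c * fC * c⁻¹) * o⁻¹ = o * c * fC * (o * c)⁻¹ by group] at hoc
      exact mul_inv_eq_iff_eq_mul.1 hoc
    have hpr : D.pr (o * c) = D.pr c := by rw [map_mul, ho, one_mul]
    -- the `l`-part
    obtain ⟨n, hn⟩ := hq
    set w := o * c
    obtain ⟨a, r, hr, hw⟩ := Nat.exists_eq_pow_mul_and_not_dvd (orderOf_pos w).ne' D.l D.hl.ne_one
    obtain ⟨s, -, hs⟩ := Nat.exists_mul_mod_eq_of_coprime 1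
      (show Nat.Coprime r (D.l ^ n) from ((D.hl.coprime_iff_not_dvd).2 hr).symm.pow_right n) (pow_pos D.hl.pos n).ne'
    have hwl : IsLel D.l (w ^ (r * s)) := ⟨a, by
      rw [← pow_mul, show r * s * D.l ^ a = (D.l ^ a * r) * s by ring, ← hw, pow_mul, pow_orderOf_eq_one, one_pow]⟩
    have hpw : D.pr (w ^ (r * s)) = D.pr c := by
      rw [map_pow, hpr]
      conv_rhs => rw [← pow_one (D.pr c)]
      rw [pow_eq_pow_iff_modEq]
      refine Nat.ModEq.of_dvd (orderOf_dvd_of_pow_eq_one hn) ?_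
      rw [Nat.ModEq, hs]
    have hm := D.mem_P0_of_comm (D.lel_G hwl) ((hc'.pow_left _).map D.C0.subtype) (D.mem_C0.1 (w ^ (r * s)).2)
    obtain ⟨i, j, e⟩ := D.mem_P0.1 hm
    refine ⟨i, j, ?_⟩
    rw [← hpw, ← map_pow, ← map_pow, ← map_mul]
    exact congrArg D.pr (Subtype.ext e)

/-- `C(y)/O` is an `l`-group. -/
theorem isP : IsPGroup D.l D.Q := (D.chyp.structure_C D.marith).1

theorem fix_sig {q : D.Q} (h : D.sig q = q) : q ∈ zpowers D.fQ := (D.chyp.structure_C D.marith).2.1 q h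

/-- `T`. -/
noncomputable def T : Subgroup D.Q := (D.chyp.structure_C D.marith).2.2.choose

theorem mem_T {q : D.Q} : q ∈ D.T ↔ D.sig q = q ^ D.m := (D.chyp.structure_C D.marith).2.2.choose_spec.1 q

theorem T_comm {a b : D.Q} (ha : a ∈ D.T) (hb : b ∈ D.T) : Commute a b :=
  (D.chyp.structure_C D.marith).2.2.choose_spec.2.1 a ha b hb

theorem decomp (q : D.Q) : ∃ t ∈ D.T, ∃ i : ℕ, q = t * D.fQ ^ i :=
  (D.chyp.structure_C D.marith).2.2.choose_spec.2.2 q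

theorem T_conj_f {t : D.Q} (ht : t ∈ D.T) (i : ℕ) : D.fQ ^ i * t * (D.fQ ^ i)⁻¹ ∈ D.T := by
  rw [D.mem_T, map_mul, map_mul, map_inv, map_pow, D.chyp.σf, D.mem_T.1 ht, conj_pow]

theorem fQ_pow {i : ℕ} (h : D.fQ ^ i = 1) : D.f ^ i = 1 := by
  rw [← map_pow] at h
  obtain ⟨a, ha⟩ := D.f_lel
  exact congrArg Subtype.val (D.pr_inj ⟨a, Subtype.ext (show (D.f ^ i) ^ D.l ^ a = 1 by
    rw [← pow_mul, mul_comm, pow_mul, ha, one_pow])⟩ h)

theorem order_fQ : orderOf D.fQ = D.l ^ D.k := by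
  rw [← D.hf]
  refine Nat.dvd_antisymm ?_ (orderOf_dvd_of_pow_eq_one (D.fQ_pow (pow_orderOf_eq_one _)))
  exact (orderOf_map_dvd _ _).trans (Subgroup.orderOf_coe _).symm.dvd

theorem T_inf_f {i : ℕ} (h : D.fQ ^ i ∈ D.T) : D.fQ ^ i = 1 := by
  have h1 := D.mem_T.1 h
  rw [map_pow, D.chyp.σf] at h1
  refine D.marith.eq_one D.isP D.marith.m1 ?_
  rw [← mul_right_inj (D.fQ ^ i), ← pow_succ', Nat.sub_add_cancel (by have := D.marith.two; omega), mul_one]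
  exact h1.symm

theorem psi_unique {t t' : D.Q} (ht : t ∈ D.T) (ht' : t' ∈ D.T) {i i' : ℕ}
    (e : t * D.fQ ^ i = t' * D.fQ ^ i') : (i : ZMod (D.l ^ D.k)) = i' := by
  rw [ZMod.natCast_eq_natCast_iff, ← D.order_fQ, ← pow_eq_pow_iff_modEq]
  wlog hle : i ≤ i' generalizing t t' i i'
  · exact (this ht' ht e.symm (by omega)).symm
  obtain ⟨j, rfl⟩ := Nat.exists_eq_add_of_le hle
  have h1 : D.fQ ^ j ∈ D.T := by
    have e2 : t'⁻¹ * t = D.fQ ^ j := by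
      rw [inv_mul_eq_iff_eq_mul]
      rw [add_comm i, pow_add, ← mul_assoc] at e
      exact mul_right_cancel e
    exact e2 ▸ mul_mem (inv_mem ht') ht
  rw [pow_add, D.T_inf_f h1, mul_one]

/-- The exponent of `f`. -/
noncomputable def psi : D.Q →* Multiplicative (ZMod (D.l ^ D.k)) :=
  MonoidHom.mk' (fun q => Multiplicative.ofAdd ((D.decomp q).choose_spec.2.choose : ZMod (D.l ^ D.k))) fun a b => by
    obtain ⟨hta, ea⟩ := And.intro (D.decomp a).choose_spec.1 (D.decomp a).choose_spec.2.choose_spec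
    obtain ⟨htb, eb⟩ := And.intro (D.decomp b).choose_spec.1 (D.decomp b).choose_spec.2.choose_spec
    obtain ⟨htab, eab⟩ := And.intro (D.decomp (a * b)).choose_spec.1 (D.decomp (a * b)).choose_spec.2.choose_spec
    rw [← ofAdd_add, ← Nat.cast_add]
    refine congrArg _ (D.psi_unique htab (mul_mem hta (D.T_conj_f htb (D.decomp a).choose_spec.2.choose))
      (eab.symm.trans ?_))
    conv_lhs => rw [ea, eb]
    rw [pow_add]; group

theorem psi_eq {t : D.Q} (ht : t ∈ D.T) (i : ℕ) : D.psi (t * D.fQ ^ i) = Multiplicative.ofAdd (i : ZMod (D.l ^ D.k)) := by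
  show Multiplicative.ofAdd ((D.decomp _).choose_spec.2.choose : ZMod (D.l ^ D.k)) = _
  exact congrArg _ (D.psi_unique (D.decomp _).choose_spec.1 ht (D.decomp (t * D.fQ ^ i)).choose_spec.2.choose_spec.symm)

theorem psi_T {t : D.Q} : D.psi t = 1 ↔ t ∈ D.T := by
  obtain ⟨u, hu, i, rfl⟩ := D.decomp t
  rw [D.psi_eq hu]
  constructor
  · intro h
    have h0 : (i : ZMod (D.l ^ D.k)) = 0 := h
    rw [ZMod.natCast_eq_zero_iff, ← D.order_fQ, orderOf_dvd_iff_pow_eq_one] at h0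
    rw [h0, mul_one]; exact hu
  · intro h
    have h1 : D.fQ ^ i ∈ D.T := by simpa using mul_mem (inv_mem hu) h
    have h2 : (i : ZMod (D.l ^ D.k)) = 0 := by
      rw [ZMod.natCast_eq_zero_iff, ← D.order_fQ, orderOf_dvd_iff_pow_eq_one]
      exact D.T_inf_f h1
    rw [h2]; rfl

theorem psi_sig (q : D.Q) : D.psi (D.sig q) = D.psi q := by
  obtain ⟨t, ht, i, rfl⟩ := D.decomp q
  rw [map_mul D.sig, map_pow, D.chyp.σf, D.mem_T.1 ht, D.psi_eq (pow_mem ht _), D.psi_eq ht]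

/-- The centraliser of `f` in `T`. -/
theorem cent_T {t : D.Q} (ht : t ∈ D.T) (hc : Commute D.fQ t) : t ∈ zpowers D.yQ := by
  obtain ⟨i, j, e⟩ := D.chyp.cent t (D.isP t) hc
  have hyT : D.yQ ^ j ∈ D.T := pow_mem (D.mem_T.2 D.chyp.σy) j
  have h1 : D.fQ ^ i ∈ D.T := by
    have := mul_mem ht (inv_mem hyT)
    rwa [e, mul_inv_cancel_right] at this
  rw [e, D.T_inf_f h1, one_mul]
  exact pow_mem (mem_zpowers _) j

/-- No conjugate of a non-trivial power of `f` has image in `T`. -/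
theorem no_conj_T {z : G} {j : ℕ} (hx : z * D.f ^ j * z⁻¹ ∈ D.C0) (hT : D.pr ⟨_, hx⟩ ∈ D.T) : D.f ^ j = 1 := by
  haveI := Fact.mk D.hl
  have hl0 : IsLel D.l (z * D.f ^ j * z⁻¹) := IsLel.conj z (IsLel.of_pgroup D.P0_pgroup (pow_mem D.f_mem j))
  set x : D.C0 := ⟨_, hx⟩
  have hlx : IsLel D.l x := D.lel_C0 hx hl0
  obtain ⟨o, -, ho⟩ := D.lift (a := ⟨D.h * x * D.h⁻¹, D.h_norm x x.2⟩) (b := x ^ D.m)
    (D.lel_C0 _ (hl0.conj D.h)) (by
      obtain ⟨n, hn⟩ := hlx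
      exact ⟨n, by rw [← pow_mul, mul_comm, pow_mul, hn, one_pow]⟩)
    (by rw [← D.sig_pr, D.mem_T.1 hT, map_pow])
  have e : (o : G) * (D.h * (z * D.f ^ j * z⁻¹) * D.h⁻¹) * (o : G)⁻¹ = (z * D.f ^ j * z⁻¹) ^ D.m := by
    have := congrArg Subtype.val ho
    simpa only [Subgroup.coe_mul, Subgroup.coe_inv, Subgroup.coe_pow] using this
  rw [conj_pow, ← pow_mul] at e
  have h2 := D.nc (z⁻¹ * o * D.h * z) j (j * D.m) (by
    rw [show z⁻¹ * (o : G) * D.h * z * D.f ^ j * (z⁻¹ * (o : G) * D.h * z)⁻¹ =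
      z⁻¹ * ((o : G) * (D.h * (z * D.f ^ j * z⁻¹) * D.h⁻¹) * (o : G)⁻¹) * z by group, e]
    group)
  refine D.marith.eq_one D.P0_pgroup D.marith.m1 (x := (⟨D.f ^ j, pow_mem D.f_mem j⟩ : D.P0)) ?_ |>
    congrArg Subtype.val
  refine Subtype.ext ?_
  show (D.f ^ j) ^ (D.m - 1) = 1
  rw [← mul_right_inj (D.f ^ j), ← pow_succ', Nat.sub_add_cancel (by have := D.marith.two; omega), mul_one,
    ← pow_mul]
  exact h2.symm

/-- The exponent of a conjugate of `f ^ n`. -/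
theorem psi_unit {z : G} {n : ℕ} (hn : ¬ D.l ∣ n) (hx : z * D.f ^ n * z⁻¹ ∈ D.C0) :
    ∃ t ∈ D.T, ∃ i : ℕ, ¬ D.l ∣ i ∧ D.pr ⟨_, hx⟩ = t * D.fQ ^ i := by
  obtain ⟨t, ht, i, e⟩ := D.decomp (D.pr ⟨_, hx⟩)
  refine ⟨t, ht, i, fun hi => ?_, e⟩
  obtain ⟨k', hk'⟩ : ∃ k', D.k = k' + 1 := ⟨D.k - 1, by have := D.hk; omega⟩
  have hpow : (z * D.f ^ n * z⁻¹) ^ D.l ^ k' = z * D.f ^ (n * D.l ^ k') * z⁻¹ := by rw [conj_pow, ← pow_mul]
  have hx' : z * D.f ^ (n * D.l ^ k') * z⁻¹ ∈ D.C0 := hpow ▸ pow_mem hx _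
  have h1 := D.no_conj_T hx' (by
    rw [show (⟨_, hx'⟩ : D.C0) = ⟨_, hx⟩ ^ D.l ^ k' from Subtype.ext hpow.symm, map_pow, ← D.psi_T, map_pow, e,
      D.psi_eq ht, ← ofAdd_nsmul, nsmul_eq_mul, ← Nat.cast_mul]
    have h0 : ((D.l ^ k' * i : ℕ) : ZMod (D.l ^ D.k)) = 0 := by
      rw [ZMod.natCast_eq_zero_iff, hk', pow_succ]
      exact Nat.mul_dvd_mul_left _ hi
    rw [h0]; rfl)
  rw [← orderOf_dvd_iff_pow_eq_one, D.hf, hk', pow_succ, mul_comm n] at h1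
  exact hn (Nat.dvd_of_mul_dvd_mul_left (pow_pos D.hl.pos k') h1)

theorem inv_exp {a : ℕ} (ha : ¬ D.l ∣ a) (i : ℕ) : ∃ j : ℕ, D.fQ ^ i = (D.fQ ^ a) ^ j := by
  obtain ⟨c, hc⟩ := exists_pow_eq_self_of_coprime (x := D.fQ) (n := a) (by
    rw [D.order_fQ]; exact ((D.hl.coprime_iff_not_dvd).2 ha).symm.pow_right _)
  exact ⟨c * i, by rw [pow_mul, hc]⟩

/-- `N⟨y⟩` preserves the exponent. -/
theorem psi_inv {z : G} {b : ℕ} (hz : z * D.y * z⁻¹ = D.y ^ b) (x : D.C0) (hx : z * x * z⁻¹ ∈ D.C0) :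
    D.psi (D.pr ⟨_, hx⟩) = D.psi (D.pr x) := by
  haveI := Fact.mk D.hl
  have hb : Nat.Coprime b (orderOf D.y) := by
    rw [D.hy]
    refine ((D.hl.coprime_iff_not_dvd).2 fun hd => ?_).symm
    have h1 : D.y ^ b = 1 := by rw [← orderOf_dvd_iff_pow_eq_one, D.hy]; exact hd
    rw [h1, conj_eq_one_iff] at hz
    have h2 := D.hy
    rw [hz, orderOf_one] at h2
    exact D.hl.one_lt.ne h2
  obtain ⟨c0, hc0⟩ := exists_pow_eq_self_of_coprime hb
  have hnorm : ∀ w ∈ D.C0, z * w * z⁻¹ ∈ D.C0 := fun w hw => by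
    have h1 : Commute (z * w * z⁻¹) (z * D.y * z⁻¹) := (D.mem_C0.1 hw).map (MulAut.conj z).toMonoidHom
    rw [hz] at h1
    exact D.mem_C0.2 (hc0 ▸ h1.pow_right c0)
  let cz : MulAut D.C0 := restr D.C0 (MulAut.conj z) (map_eq_of _ _ hnorm)
  let β : MulAut D.Q := QuotientGroup.congr D.O D.O cz (Fusion.map_pPrimeCore_equiv cz)
  have hβ : ∀ w : D.C0, β (D.pr w) = D.pr ⟨z * w * z⁻¹, hnorm w w.2⟩ := fun w => rfl
  -- `β σ = inn(c) σ β`
  have hcC : z * D.h * z⁻¹ * D.h⁻¹ ∈ D.C0 := by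
    rw [D.mem_C0]
    have e1 : (z * D.h) * D.y * (z * D.h)⁻¹ = (D.h * z) * D.y * (D.h * z)⁻¹ := by
      rw [show z * D.h * D.y * (z * D.h)⁻¹ = z * (D.h * D.y * D.h⁻¹) * z⁻¹ by group, D.hhy, ← conj_pow, hz,
        show D.h * z * D.y * (D.h * z)⁻¹ = D.h * (z * D.y * z⁻¹) * D.h⁻¹ by group, hz, ← conj_pow, D.hhy,
        ← pow_mul, ← pow_mul, mul_comm]
    show z * D.h * z⁻¹ * D.h⁻¹ * D.y = D.y * (z * D.h * z⁻¹ * D.h⁻¹)
    calc z * D.h * z⁻¹ * D.h⁻¹ * D.y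
        = z * D.h * z⁻¹ * D.h⁻¹ * D.y * ((D.h * z) * (D.h * z)⁻¹) := by rw [mul_inv_cancel, mul_one]
      _ = (z * D.h) * ((D.h * z)⁻¹ * D.y * (D.h * z)) * (D.h * z)⁻¹ := by group
      _ = (z * D.h) * ((z * D.h)⁻¹ * D.y * (z * D.h)) * (D.h * z)⁻¹ := by
          have hh : (D.h * z)⁻¹ * D.y * (D.h * z) = (z * D.h)⁻¹ * D.y * (z * D.h) := by
            obtain ⟨r, hr⟩ : ∃ r : ℕ, D.y = ((z * D.h) * D.y * (z * D.h)⁻¹) ^ r := by
              obtain ⟨c1, hc1⟩ := exists_pow_eq_self_of_coprime (x := D.y) (n := D.μ * b) (by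
                rw [D.hy]
                refine ((D.hl.coprime_iff_not_dvd).2 fun hd => ?_).symm
                rcases D.hl.dvd_mul.1 hd with h' | h'
                · exact D.marith.ml ((Nat.ModEq.dvd_iff D.m_modEq dvd_rfl).2 h')
                · rw [D.hy] at hb
                  exact D.hl.one_lt.ne' (hb.symm.eq_one_of_dvd h'))
              refine ⟨c1, ?_⟩
              rw [show z * D.h * D.y * (z * D.h)⁻¹ = z * (D.h * D.y * D.h⁻¹) * z⁻¹ by group, D.hhy, ← conj_pow, hz,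
                ← pow_mul D.y b, mul_comm b, hc1]
            calc (D.h * z)⁻¹ * D.y * (D.h * z) = (D.h * z)⁻¹ * ((D.h * z * D.y * (D.h * z)⁻¹) ^ r) * (D.h * z) := by
                  rw [← e1, ← hr]
              _ = D.y ^ r := by rw [conj_pow]; group
              _ = (z * D.h)⁻¹ * ((z * D.h * D.y * (z * D.h)⁻¹) ^ r) * (z * D.h) := by rw [conj_pow]; group
              _ = (z * D.h)⁻¹ * D.y * (z * D.h) := by rw [← hr]
          rw [hh]
      _ = D.y * (z * D.h * z⁻¹ * D.h⁻¹) := by group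
  set c : D.Q := D.pr ⟨_, hcC⟩ with hc
  have hβσ : ∀ q, β (D.sig q) = c * D.sig (β q) * c⁻¹ := by
    intro q
    obtain ⟨w, rfl⟩ := QuotientGroup.mk'_surjective D.O q
    rw [D.sig_pr, hβ, hβ, D.sig_pr, hc, ← map_inv, ← map_mul, ← map_mul]
    refine congrArg D.pr (Subtype.ext ?_)
    simp only [Subgroup.coe_mul, Subgroup.coe_inv]
    group
  -- `β T = T`
  have hβT : ∀ t ∈ D.T, β t ∈ D.T := by
    intro t ht
    have h1 := congrArg D.psi (hβσ t)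
    rw [D.mem_T.1 ht, map_pow, map_mul, map_mul, map_inv, D.psi_sig, mul_inv_cancel_comm, map_pow] at h1
    have hA : IsPGroup D.l (Multiplicative (ZMod (D.l ^ D.k))) := IsPGroup.of_card (n := D.k) (by
      rw [show Nat.card (Multiplicative (ZMod (D.l ^ D.k))) = Nat.card (ZMod (D.l ^ D.k)) from rfl, Nat.card_zmod])
    refine D.psi_T.1 (D.marith.eq_one hA D.marith.m1 ?_)
    rw [← mul_right_inj (D.psi (β t)), ← pow_succ', Nat.sub_add_cancel (by have := D.marith.two; omega), mul_one]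
    exact h1
  -- `β f`
  obtain ⟨t, ht, a, e⟩ := D.decomp (β D.fQ)
  have hzf : z * D.f * z⁻¹ ∈ D.C0 := hnorm _ (D.P0_le_C0 D.f_mem)
  have ha : ¬ D.l ∣ a := by
    intro hd
    obtain ⟨t', ht', i, hi, e'⟩ := D.psi_unit (z := z) (n := 1) (fun h => D.hl.one_lt.ne' (Nat.dvd_one.1 h))
      (by rw [pow_one]; exact hzf)
    have h1 : t * D.fQ ^ a = t' * D.fQ ^ i := by
      rw [← e, ← e', hβ]
      exact congrArg D.pr (Subtype.ext (by simp))
    have h2 := D.psi_unique ht ht' h1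
    rw [ZMod.natCast_eq_natCast_iff] at h2
    exact hi ((Nat.ModEq.dvd_iff h2 (dvd_pow_self _ (by have := D.hk; omega))).1 hd)
  set g := D.fQ ^ a
  -- `D`, the commutators with `f ^ a`
  letI : CommGroup D.T :=
    { (inferInstance : Group D.T) with mul_comm := fun a b => Subtype.ext (D.T_comm a.2 b.2).eq }
  let δ : D.T →* D.T := MonoidHom.mk' (fun u => u * (⟨g * (u : D.Q) * g⁻¹, D.T_conj_f u.2 a⟩ : D.T)⁻¹) fun u v => by
    rw [show (⟨g * ((u * v : D.T) : D.Q) * g⁻¹, D.T_conj_f (u * v).2 a⟩ : D.T) =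
      ⟨g * (u : D.Q) * g⁻¹, D.T_conj_f u.2 a⟩ * ⟨g * (v : D.Q) * g⁻¹, D.T_conj_f v.2 a⟩ from Subtype.ext (by
        simp only [Subgroup.coe_mul]; group), mul_inv, mul_mul_mul_comm]
  -- conjugation by powers of `f` is trivial modulo `δ`
  have hcj : ∀ (i : ℕ) (u : D.T),
      (⟨D.fQ ^ i * (u : D.Q) * (D.fQ ^ i)⁻¹, D.T_conj_f u.2 i⟩ : D.T)⁻¹ * u ∈ δ.range := by
    intro i u
    obtain ⟨j, hj⟩ := D.inv_exp ha i
    have key : ∀ (j : ℕ) (w : D.T), (w : D.Q) = g ^ j * (u : D.Q) * (g ^ j)⁻¹ → w⁻¹ * u ∈ δ.range := by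
      intro j
      induction j with
      | zero =>
        intro w hw
        rw [show w = u from Subtype.ext (by rw [hw]; simp), inv_mul_cancel]
        exact one_mem _
      | succ j ih =>
        intro w hw
        have hm : g ^ j * (u : D.Q) * (g ^ j)⁻¹ ∈ D.T := by
          rw [show g ^ j = D.fQ ^ (a * j) from (pow_mul _ _ _).symm]; exact D.T_conj_f u.2 _
        set v : D.T := ⟨_, hm⟩ with hv
        have h2 := mul_mem (show δ v ∈ δ.range from ⟨_, rfl⟩) (ih v rfl)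
        have e1 : (⟨g * (v : D.Q) * g⁻¹, D.T_conj_f v.2 a⟩ : D.T) = w := Subtype.ext (by
          show g * (v : D.Q) * g⁻¹ = _
          rw [hw, hv, pow_succ']; group)
        change v * (⟨g * (v : D.Q) * g⁻¹, D.T_conj_f v.2 a⟩ : D.T)⁻¹ * (v⁻¹ * u) ∈ δ.range at h2
        rw [e1, mul_comm v, mul_assoc, mul_inv_cancel_left] at h2
        exact h2
    exact key j _ (show D.fQ ^ i * (u : D.Q) * (D.fQ ^ i)⁻¹ = _ by rw [hj])
  obtain ⟨t0, ht0, i0, ec⟩ := D.decomp c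
  have htD : (⟨t, ht⟩ : D.T) ∈ δ.range := by
    have h1 := hβσ D.fQ
    rw [D.chyp.σf, e, map_mul D.sig, map_pow, D.chyp.σf, D.mem_T.1 ht, ec] at h1
    set s : D.T := ⟨D.fQ ^ i0 * t ^ D.m * (D.fQ ^ i0)⁻¹, D.T_conj_f (pow_mem ht _) i0⟩ with hs
    have h2 : (⟨t, ht⟩ : D.T) = δ ⟨t0, ht0⟩ * s := by
      refine Subtype.ext (mul_right_cancel (b := g) ?_)
      show t * g = t0 * (g * t0 * g⁻¹)⁻¹ * (D.fQ ^ i0 * t ^ D.m * (D.fQ ^ i0)⁻¹) * g
      rw [h1, show D.fQ ^ a = g from rfl]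
      have key : ∀ A B C X : D.Q, Commute X B → Commute (X * A * X⁻¹)⁻¹ (B * C * B⁻¹) →
          A * B * (C * X) * (A * B)⁻¹ = A * (X * A * X⁻¹)⁻¹ * (B * C * B⁻¹) * X := by
        intro A B C X hXB hc
        rw [mul_assoc A ((X * A * X⁻¹)⁻¹), hc.eq, show A * (B * C * B⁻¹ * (X * A * X⁻¹)⁻¹) * X =
          A * B * C * (B⁻¹ * X) * A⁻¹ by group, ← hXB.inv_right.eq]
        group
      exact key _ _ _ _ (Commute.pow_pow_self D.fQ a i0)
        (D.T_comm (inv_mem (D.T_conj_f ht0 a)) (D.T_conj_f (pow_mem ht _) i0))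
    have h3 : (⟨t, ht⟩ : D.T) * s⁻¹ ∈ δ.range := ⟨⟨t0, ht0⟩, by rw [h2, mul_inv_cancel_right]⟩
    have h4 : s * ((⟨t, ht⟩ : D.T) ^ D.m)⁻¹ ∈ δ.range := by
      have h5 := inv_mem (hcj i0 ((⟨t, ht⟩ : D.T) ^ D.m))
      rw [mul_inv_rev, inv_inv, mul_comm] at h5
      convert h5 using 3
      simp
    have h6 : ((⟨t, ht⟩ : D.T) ^ (D.m - 1))⁻¹ ∈ δ.range := by
      have h7 := mul_mem h3 h4
      rw [mul_assoc, inv_mul_cancel_left] at h7
      convert h7 using 1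
      rw [eq_mul_inv_iff_mul_eq, inv_mul_eq_iff_eq_mul, ← pow_succ, Nat.sub_add_cancel (by have := D.marith.two; omega)]
    obtain ⟨c1, hc1⟩ := D.marith.root (D.isP.to_subgroup D.T) (⟨t, ht⟩ : D.T)
    rw [← hc1]
    exact pow_mem (inv_mem_iff.1 h6) c1
  obtain ⟨u, hu⟩ := htD
  have hu' : (u : D.Q) * (g * (u : D.Q) * g⁻¹)⁻¹ = t := congrArg Subtype.val hu
  -- `β f` is conjugate to `f ^ a`
  have haf : D.f ^ 1 = D.f ^ a := by
    obtain ⟨cu, hcu⟩ := QuotientGroup.mk'_surjective D.O (u : D.Q)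
    have hg : β D.fQ = (u : D.Q) * g * (u : D.Q)⁻¹ := by
      rw [e, ← hu']; group
    set fa : D.C0 := ⟨D.f, D.P0_le_C0 D.f_mem⟩ ^ a
    have e3 : D.pr ⟨z * D.f * z⁻¹, hzf⟩ = D.pr (cu * fa * cu⁻¹) := by
      rw [map_mul, map_mul, map_inv, map_pow, show D.pr cu = (u : D.Q) from hcu, ← hg, hβ]
    have hfa : IsLel D.l fa := by
      obtain ⟨n, hn⟩ := D.f_lel
      exact ⟨n, Subtype.ext (show (D.f ^ a) ^ D.l ^ n = 1 by rw [← pow_mul, mul_comm, pow_mul, hn, one_pow])⟩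
    obtain ⟨o, -, ho⟩ := D.lift (D.lel_C0 hzf (D.f_lel.conj z)) (hfa.conj cu) e3
    refine D.nc ((cu : G)⁻¹ * o * z) 1 a ?_
    have e4 : (o : G) * (z * D.f * z⁻¹) * (o : G)⁻¹ = (cu : G) * D.f ^ a * (cu : G)⁻¹ := congrArg Subtype.val ho
    rw [pow_one, show (cu : G)⁻¹ * (o : G) * z * D.f * ((cu : G)⁻¹ * (o : G) * z)⁻¹ =
      (cu : G)⁻¹ * ((o : G) * (z * D.f * z⁻¹) * (o : G)⁻¹) * cu by group, e4]
    group
  have ha1 : (a : ZMod (D.l ^ D.k)) = 1 := by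
    rw [← Nat.cast_one, ZMod.natCast_eq_natCast_iff, ← D.hf, ← pow_eq_pow_iff_modEq]
    exact haf.symm
  -- conclusion
  show D.psi (β (D.pr x)) = D.psi (D.pr x)
  obtain ⟨tx, htx, i, ex⟩ := D.decomp (D.pr x)
  rw [ex, map_mul β, map_pow, e, map_mul D.psi, map_pow, D.psi_eq ht, D.psi_T.2 (hβT tx htx), one_mul,
    D.psi_eq htx, ← ofAdd_nsmul, ha1, nsmul_eq_mul, mul_one]

end Dat

end Cfsg.Agent.Walter.JR.LT
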