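import Mathlib.GroupTheory.Sylow
import Mathlib.GroupTheory.Perm.Cycle.Type

/-!
# Two weights

`σ`, of prime order `d`, and the `l`-automorphism `φ` act commuting on the `l`-group `R`; `σ` fixes only points fixed by
`φ`, and the fixed points of `φ` form an abelian group on which `σ` has weight `1` and, on a line, weight `m`.  Then
`T = {x | σ x = x ^ m}` is an abelian subgroup and `R = T C(σ)`.
-/

set_option autoImplicit false
set_option linter.unusedSectionVars false
set_option linter.style.haveILetI false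

namespace Cfsg.Agent.Walter.JR.LT

open Subgroup

universe u

/-- The arithmetic of the weight `m`. -/
structure MArith (l d m : ℕ) : Prop where
  hl : l.Prime
  hd : d.Prime
  dl : d ≠ l
  two : 2 ≤ m
  ml : ¬ l ∣ m
  m1 : ¬ l ∣ m - 1
  m2 : ¬ l ∣ m * m - 1

/-- The hypothesis on `R`, `σ`, `φ`. -/
structure WHyp (R : Type u) [Group R] (l d m : ℕ) (σ φ : MulAut R) : Prop where
  hR : IsPGroup l R
  comm : ∀ x, σ (φ x) = φ (σ x)
  hσ : σ ^ d = 1
  hm : ∀ x : R, x ^ m ^ d = x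
  hφ : ∃ k, φ ^ l ^ k = 1
  fixσ : ∀ x, σ x = x → φ x = x
  fix_comm : ∀ x y, φ x = x → φ y = y → Commute x y
  fix_split : ∀ x, φ x = x → ∃ a b, x = a * b ∧ σ a = a ∧ φ b = b ∧ σ b = b ^ m
  line : Nat.card {b : R // φ b = b ∧ σ b = b ^ m} ≤ l

theorem comm_pow_left {R : Type u} [Group R] {x y c : R} (hc : c ∈ center R) (h : x * y = c * (y * x)) (i : ℕ) :
    x ^ i * y = c ^ i * (y * x ^ i) := by
  induction i with
  | zero => simp
  | succ i ih =>
    rw [pow_succ' x, mul_assoc, ih, ← mul_assoc x, mem_center_iff.1 (pow_mem hc i) x, mul_assoc, ← mul_assoc x y,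
      h, pow_succ c]
    group

theorem comm_pow_pow {R : Type u} [Group R] {x y c : R} (hc : c ∈ center R) (h : x * y = c * (y * x)) (i j : ℕ) :
    x ^ i * y ^ j = c ^ (i * j) * (y ^ j * x ^ i) := by
  induction j with
  | zero => simp
  | succ j ih =>
    rw [pow_succ y, ← mul_assoc, ih, mul_assoc, mul_assoc, comm_pow_left hc h i, ← mul_assoc (y ^ j) (c ^ i),
      mem_center_iff.1 (pow_mem hc i) (y ^ j), Nat.mul_succ, pow_add]
    group

theorem fix_mul {R : Type u} [Group R] (σ : MulAut R) {x a : R} (h : σ x = x * a) (ha : σ a = a) (i : ℕ) :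
    (σ ^ i) x = x * a ^ i := by
  induction i with
  | zero => simp
  | succ i ih => rw [pow_succ', MulAut.mul_apply, ih, map_mul, map_pow, h, ha, pow_succ', mul_assoc]

theorem MArith.eq_one {l d m : ℕ} (M : MArith l d m) {R : Type u} [Group R] (hR : IsPGroup l R) {x : R} {n : ℕ}
    (hn : ¬ l ∣ n) (h : x ^ n = 1) : x = 1 := by
  haveI := Fact.mk M.hl
  obtain ⟨k, hk⟩ := IsPGroup.iff_orderOf.1 hR x
  exact orderOf_eq_one_iff.1 (Nat.eq_one_of_dvd_coprimes
    (Nat.Coprime.pow_left k ((M.hl.coprime_iff_not_dvd).2 hn)) hk.dvd (orderOf_dvd_of_pow_eq_one h))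

theorem MArith.root {l d m : ℕ} (M : MArith l d m) {R : Type u} [Group R] (hR : IsPGroup l R) (x : R) :
    ∃ c : ℕ, (x ^ (m - 1)) ^ c = x := by
  haveI := Fact.mk M.hl
  obtain ⟨k, hk⟩ := IsPGroup.iff_orderOf.1 hR x
  obtain ⟨c, -, hc⟩ := Nat.exists_mul_mod_eq_of_coprime 1
    (show Nat.Coprime (m - 1) (orderOf x) by
      rw [hk]; exact (Nat.Coprime.pow_right k ((M.hl.coprime_iff_not_dvd).2 M.m1).symm))
    (orderOf_pos_iff.2 (isOfFinOrder_iff_pow_eq_one.2 ⟨l ^ k, pow_pos M.hl.pos k, hk ▸ pow_orderOf_eq_one x⟩)).ne'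
  exact ⟨c, by rw [← pow_mul, ← pow_mod_orderOf, hc, pow_mod_orderOf, pow_one]⟩

/-- `x ^ (1 + c) = x ^ (c m)`. -/
theorem MArith.shift {l d m : ℕ} (M : MArith l d m) {R : Type u} [Group R] (hR : IsPGroup l R) (x : R) :
    ∃ c : ℕ, x * x ^ c = (x ^ c) ^ m := by
  obtain ⟨c, hc⟩ := M.root hR x
  refine ⟨c, ?_⟩
  have e : c * m = (m - 1) * c + c := by
    have := M.two
    obtain ⟨j, rfl⟩ : ∃ j, m = j + 1 := ⟨m - 1, by omega⟩
    simp; ring
  rw [← pow_mul, e, pow_add, pow_mul, hc]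

namespace WHyp

variable {R : Type u} [Group R] [Finite R] {l d m : ℕ} {σ φ : MulAut R} (M : MArith l d m) (H : WHyp R l d m σ φ)

include M H

theorem fix_of_mul {x a : R} (h : σ x = x * a) (ha : σ a = a) : σ x = x := by
  have e := fix_mul σ h ha d
  rw [H.hσ, MulAut.one_apply] at e
  rw [h, M.eq_one H.hR (fun hd => M.dl ((Nat.prime_dvd_prime_iff_eq M.hl M.hd).1 hd).symm) (left_eq_mul.1 e), mul_one]

theorem weight_of_mul {x n : R} (h : σ x = x ^ m * n) (hn : σ n = n ^ m) (hxn : Commute x n) : n = 1 := by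
  have key : ∀ i, (σ ^ (i + 1)) x = x ^ m ^ (i + 1) * n ^ ((i + 1) * m ^ i) := by
    intro i
    induction i with
    | zero => simp [h]
    | succ i ih =>
      rw [pow_succ' σ, MulAut.mul_apply, ih, map_mul, map_pow, map_pow, h, hn, (hxn.pow_left m).mul_pow,
        ← pow_mul, ← pow_mul, mul_assoc, ← pow_add]
      congr 2
      · rw [pow_succ m (i + 1), mul_comm]
      · ring
  obtain ⟨j, hj⟩ : ∃ j, d = j + 1 := ⟨d - 1, by have := M.hd.pos; omega⟩
  have e := key j
  rw [← hj, H.hσ, MulAut.one_apply, H.hm] at e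
  refine M.eq_one H.hR ?_ (left_eq_mul.1 e)
  intro hd
  rcases M.hl.dvd_mul.1 hd with h' | h'
  · exact M.dl ((Nat.prime_dvd_prime_iff_eq M.hl M.hd).1 h').symm
  · exact M.ml (M.hl.dvd_of_dvd_pow h')

/-- An element of the centre of order `l` fixed by `φ` of weight `1` or `m`. -/
theorem exists_central [Nontrivial R] : ∃ n : R, orderOf n = l ∧ n ∈ center R ∧ φ n = n ∧ (σ n = n ∨ σ n = n ^ m) := by
  classical
  haveI := Fact.mk M.hl
  haveI := H.hR.center_nontrivial
  obtain ⟨k, hk⟩ := H.hφ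
  have hinv : ∀ (ψ : MulAut R) (z : R), z ∈ center R → ψ z ∈ center R := fun ψ z hz => mem_center_iff.2 fun g => by
    have e := congrArg ψ (mem_center_iff.1 hz (ψ.symm g))
    rwa [map_mul, map_mul, ψ.apply_symm_apply] at e
  haveI := Fintype.ofFinite (center R)
  let π : Equiv.Perm (center R) := Equiv.ofBijective (fun z => (⟨φ z, hinv φ z z.2⟩ : center R))
    (Finite.injective_iff_bijective.1 fun a b e => Subtype.ext (φ.injective (congrArg Subtype.val e)))
  have hπ : ∀ (i : ℕ) (z : center R), ((π ^ i) z : R) = (φ ^ i) z := by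
    intro i
    induction i with
    | zero => intro z; rfl
    | succ i ih => intro z; rw [pow_succ', Equiv.Perm.mul_apply, pow_succ', MulAut.mul_apply, ← ih]; rfl
  obtain ⟨z, hz, hz1⟩ := Equiv.Perm.exists_fixed_point_of_prime' (p := l) (n := k)
    (by
      obtain ⟨j, hj⟩ := IsPGroup.iff_card.1 (H.hR.to_subgroup (center R))
      rw [← Nat.card_eq_fintype_card, hj]
      refine dvd_pow_self l fun h0 => ?_
      rw [h0, pow_zero] at hj
      exact (Finite.one_lt_card (α := center R)).ne' hj)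
    (σ := π) (Equiv.ext fun z => Subtype.ext (by rw [hπ, hk]; rfl)) (a := 1) (Subtype.ext (map_one φ))
  have hzf : φ (z : R) = z := congrArg Subtype.val hz
  obtain ⟨a, b, e, ha, hb, hbm⟩ := H.fix_split _ hzf
  obtain ⟨c, hc⟩ := M.root H.hR b
  have hb' : b ^ (m - 1) = (z : R)⁻¹ * σ z := by
    rw [e, map_mul, ha, hbm, mul_inv_rev, show b⁻¹ * a⁻¹ * (a * b ^ m) = b⁻¹ * b ^ m by group, eq_inv_mul_iff_mul_eq,
      ← pow_succ', Nat.sub_add_cancel (by have := M.two; omega)]
  have hbc : b ∈ center R := hc ▸ pow_mem (hb' ▸ mul_mem (inv_mem z.2) (hinv σ _ z.2)) c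
  have hac : a ∈ center R := by
    have := mul_mem z.2 (inv_mem hbc)
    rwa [e, mul_inv_cancel_right] at this
  obtain ⟨w, hw1, hwc, hwf, hww⟩ : ∃ w : R, w ≠ 1 ∧ w ∈ center R ∧ φ w = w ∧ (σ w = w ∨ σ w = w ^ m) := by
    by_cases h : b = 1
    · exact ⟨a, fun ha1 => hz1 (Subtype.ext (by rw [e, ha1, h, one_mul]; rfl)), hac, H.fixσ a ha, Or.inl ha⟩
    · exact ⟨b, h, hbc, hb, Or.inr hbm⟩
  obtain ⟨j, hj⟩ := IsPGroup.iff_orderOf.1 H.hR w
  have hj0 : j ≠ 0 := fun h0 => by rw [h0, pow_zero, orderOf_eq_one_iff] at hj; exact hw1 hj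
  refine ⟨w ^ l ^ (j - 1), ?_, pow_mem hwc _, by rw [map_pow, hwf], ?_⟩
  · rw [orderOf_pow, hj, Nat.gcd_eq_right (pow_dvd_pow l (by omega)),
      Nat.pow_div (by omega) M.hl.pos, show j - (j - 1) = 1 by omega, pow_one]
  · rcases hww with h | h
    · exact Or.inl (by rw [map_pow, h])
    · exact Or.inr (by rw [map_pow, h, ← pow_mul, ← pow_mul, mul_comm])

end WHyp

/-- The induction. -/
theorem weights {l d m : ℕ} (M : MArith l d m) : ∀ (n : ℕ) (R : Type u) [Group R] [Finite R] (σ φ : MulAut R),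
    Nat.card R = n → WHyp R l d m σ φ →
    ∃ T : Subgroup R, (∀ x, x ∈ T ↔ σ x = x ^ m) ∧ (∀ x ∈ T, ∀ y ∈ T, Commute x y) ∧
      ∀ x, ∃ t ∈ T, ∃ a, σ a = a ∧ x = t * a := by
  intro n
  induction n using Nat.strong_induction_on with
  | _ n ih =>
  intro R _ _ σ φ hn H
  classical
  haveI := Fact.mk M.hl
  cases subsingleton_or_nontrivial R with
  | inl hs =>
    exact ⟨⊤, fun x => ⟨fun _ => Subsingleton.elim _ _, fun _ => mem_top _⟩, fun x _ y _ => Subsingleton.elim _ _,
      fun x => ⟨x, mem_top _, 1, map_one σ, (mul_one x).symm⟩⟩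
  | inr hs =>
  obtain ⟨n0, hn0, hn0c, hn0f, hn0w⟩ := H.exists_central M
  set N : Subgroup R := zpowers n0 with hN
  have hNc : N ≤ center R := zpowers_le.2 hn0c
  haveI hNn : N.Normal := ⟨fun a ha g => by rw [mem_center_iff.1 (hNc ha) g, mul_inv_cancel_right]; exact ha⟩
  have hNf : ∀ z ∈ N, φ z = z := fun z hz => by
    obtain ⟨i, rfl⟩ := mem_zpowers_iff.1 hz
    rw [map_zpow, hn0f]
  obtain ⟨p, hp, hNw⟩ : ∃ p, (1 = p ∨ m = p) ∧ ∀ z ∈ N, σ z = z ^ p := by
    obtain ⟨p, hp, e⟩ : ∃ p, (1 = p ∨ m = p) ∧ σ n0 = n0 ^ p := by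
      rcases hn0w with h | h
      · exact ⟨1, Or.inl rfl, h.trans (pow_one n0).symm⟩
      · exact ⟨m, Or.inr rfl, h⟩
    refine ⟨p, hp, fun z hz => ?_⟩
    obtain ⟨i, rfl⟩ := mem_zpowers_iff.1 hz
    rw [map_zpow, e, ← zpow_natCast, ← zpow_natCast, ← zpow_mul, ← zpow_mul, mul_comm]
  have hNσ : N.map σ.toMonoidHom = N := by
    refine eq_of_le_of_card_ge ?_ (by rw [Subgroup.card_map_of_injective σ.injective])
    rintro _ ⟨z, hz, rfl⟩
    show σ z ∈ N
    rw [hNw z hz]
    exact pow_mem hz p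
  have hNφ : N.map φ.toMonoidHom = N := by
    refine eq_of_le_of_card_ge ?_ (by rw [Subgroup.card_map_of_injective φ.injective])
    rintro _ ⟨z, hz, rfl⟩
    show φ z ∈ N
    rwa [hNf z hz]
  let π : R →* R ⧸ N := QuotientGroup.mk' N
  let σb : MulAut (R ⧸ N) := QuotientGroup.congr N N σ hNσ
  let φb : MulAut (R ⧸ N) := QuotientGroup.congr N N φ hNφ
  have hσb : ∀ x, σb (π x) = π (σ x) := fun x => rfl
  have hφb : ∀ x, φb (π x) = π (φ x) := fun x => rfl
  have hπ : ∀ a b : R, π a = π b ↔ a⁻¹ * b ∈ N := fun a b => QuotientGroup.eq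
  have hπs : ∀ q, ∃ x, π x = q := fun q => QuotientGroup.mk'_surjective N q
  have hsurj : Function.Surjective π := hπs
  have hRb : IsPGroup l (R ⧸ N) := H.hR.to_quotient N
  -- fixed points of `σ` lift
  have liftfix : ∀ x, σb (π x) = π x → ∃ a, σ a = a ∧ π a = π x := by
    intro x hx
    rw [hσb, eq_comm, hπ] at hx
    have e : σ x = x * (x⁻¹ * σ x) := (mul_inv_cancel_left x (σ x)).symm
    rcases hp with rfl | rfl
    · exact ⟨x, H.fix_of_mul M e (by rw [hNw _ hx, pow_one]), rfl⟩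
    · obtain ⟨c, hc⟩ := M.shift H.hR (x⁻¹ * σ x)⁻¹
      refine ⟨x * (x⁻¹ * σ x)⁻¹ ^ c, ?_, ((hπ _ _).2 ?_).symm⟩
      · rw [map_mul, map_pow, map_inv, hNw _ hx, ← inv_pow, ← pow_mul, mul_comm m c, pow_mul, ← hc, ← mul_assoc,
          show σ x * (x⁻¹ * σ x)⁻¹ = x by group]
      · rw [inv_mul_cancel_left]; exact pow_mem (inv_mem hx) c
  have hσbd : σb ^ d = 1 := by
    have key : ∀ (i : ℕ) x, (σb ^ i) (π x) = π ((σ ^ i) x) := by
      intro i
      induction i with
      | zero => intro x; rfl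
      | succ i ih' => intro x; rw [pow_succ', MulAut.mul_apply, ih', hσb, pow_succ', MulAut.mul_apply]
    refine MulEquiv.ext fun q => ?_
    obtain ⟨x, rfl⟩ := hπs q
    rw [key, H.hσ]; rfl
  have hφbd : ∃ k, φb ^ l ^ k = 1 := by
    have key : ∀ (i : ℕ) x, (φb ^ i) (π x) = π ((φ ^ i) x) := by
      intro i
      induction i with
      | zero => intro x; rfl
      | succ i ih' => intro x; rw [pow_succ', MulAut.mul_apply, ih', hφb, pow_succ', MulAut.mul_apply]
    obtain ⟨k, hk⟩ := H.hφ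
    refine ⟨k, MulEquiv.ext fun q => ?_⟩
    obtain ⟨x, rfl⟩ := hπs q
    rw [key, hk]; rfl
  -- the fixed points of `φ` in the quotient
  have hfix : (∀ q, φb q = q → ∃ a b, q = a * b ∧ σb a = a ∧ φb b = b ∧ σb b = b ^ m) ∧
      (∀ a b, σb a = a → φb b = b → σb b = b ^ m → Commute a b) ∧
      (∀ b b', φb b = b → σb b = b ^ m → φb b' = b' → σb b' = b' ^ m → Commute b b') ∧
      Nat.card {b : R ⧸ N // φb b = b ∧ σb b = b ^ m} ≤ l := by
    have hA : ∀ a a', σb a = a → σb a' = a' → Commute a a' := by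
      intro a a' ha ha'
      obtain ⟨x, rfl⟩ := hπs a
      obtain ⟨x', rfl⟩ := hπs a'
      obtain ⟨y, hy, ey⟩ := liftfix x ha
      obtain ⟨y', hy', ey'⟩ := liftfix x' ha'
      rw [← ey, ← ey']
      exact (H.fix_comm y y' (H.fixσ y hy) (H.fixσ y' hy')).map π
    rcases hp with rfl | rfl
    · -- weight one
      have split1 : ∀ q, φb q = q → ∃ x' b, σ x' = x' ∧ φ b = b ∧ σ b = b ^ m ∧ q = π x' * π b := by
        intro q hq
        obtain ⟨x, rfl⟩ := hπs q
        rw [hφb, eq_comm, hπ] at hq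
        have hu : φ (x⁻¹ * σ x) = x⁻¹ * σ x := by
          have e : φ x = x * (x⁻¹ * φ x) := (mul_inv_cancel_left x (φ x)).symm
          have hz := mem_center_iff.1 (hNc hq)
          rw [map_mul, map_inv, ← H.comm, e, map_mul, hNw _ hq, pow_one, mul_inv_rev, mul_assoc,
            hz (σ x), ← mul_assoc x⁻¹, hz x⁻¹, mul_assoc, inv_mul_cancel_left]
        obtain ⟨a, b, e, ha, hb, hbm⟩ := H.fix_split _ hu
        obtain ⟨c, hc⟩ := M.shift H.hR b
        have hab : Commute a (b ^ c) := (H.fix_comm a b (H.fixσ a ha) hb).pow_right c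
        refine ⟨x * (b ^ c)⁻¹, b ^ c, ?_, by rw [map_pow, hb],
          by rw [map_pow, hbm, ← pow_mul, ← pow_mul, mul_comm], by rw [← map_mul, inv_mul_cancel_right]⟩
        refine H.fix_of_mul M (a := a) ?_ ha
        rw [map_mul, map_inv, map_pow, hbm, show σ x = x * (a * b) by rw [← e, mul_inv_cancel_left], ← pow_mul,
          mul_comm m c, pow_mul, ← hc, mul_assoc x (b ^ c)⁻¹, ← hab.inv_right.eq]
        group
      have wt1 : ∀ b, φb b = b → σb b = b ^ m → ∃ b0, φ b0 = b0 ∧ σ b0 = b0 ^ m ∧ π b0 = b := by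
        intro b hb hbm
        obtain ⟨x', b0, hx', hb0, hb0m, rfl⟩ := split1 b hb
        refine ⟨b0, hb0, hb0m, ?_⟩
        have hcm : Commute (π x') (π b0) := (H.fix_comm x' b0 (H.fixσ x' hx') hb0).map π
        rw [hcm.mul_pow, map_mul, hσb, hσb, hx', hb0m, map_pow, mul_left_inj] at hbm
        rw [M.eq_one hRb M.m1 (x := π x') (by
          rw [← mul_right_inj (π x'), ← pow_succ', Nat.sub_add_cancel (by have := M.two; omega), mul_one]
          exact hbm.symm), one_mul]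
      refine ⟨fun q hq => ?_, fun a b ha hb hbm => ?_, fun b b' hb hbm hb' hbm' => ?_, ?_⟩
      · obtain ⟨x', b, hx', hb, hbm, rfl⟩ := split1 q hq
        exact ⟨π x', π b, rfl, by rw [hσb, hx'], by rw [hφb, hb], by rw [hσb, hbm, map_pow]⟩
      · obtain ⟨x, rfl⟩ := hπs a
        obtain ⟨a0, ha0, ea⟩ := liftfix x ha
        rw [← ea]
        obtain ⟨b0, hb0, -, rfl⟩ := wt1 b hb hbm
        exact (H.fix_comm a0 b0 (H.fixσ a0 ha0) hb0).map π
      · obtain ⟨b0, hb0, -, rfl⟩ := wt1 b hb hbm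
        obtain ⟨b1, hb1, -, rfl⟩ := wt1 b' hb' hbm'
        exact (H.fix_comm b0 b1 hb0 hb1).map π
      · refine le_trans (Nat.card_le_card_of_surjective (fun b : {b : R // φ b = b ∧ σ b = b ^ m} =>
          (⟨π b.1, by rw [hφb, b.2.1], by rw [hσb, b.2.2, map_pow]⟩ : {b : R ⧸ N // φb b = b ∧ σb b = b ^ m}))
          fun b => ?_) H.line
        obtain ⟨b0, hb0, hb0m, e⟩ := wt1 b.1 b.2.1 b.2.2
        exact ⟨⟨b0, hb0, hb0m⟩, Subtype.ext e⟩
    · -- weight `m`; the line is `N`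
      have hline : ∀ b, φ b = b → σ b = b ^ m → b ∈ N := by
        intro b hb hbm
        have hbij : Function.Bijective (fun z : N =>
            (⟨z.1, hNf z.1 z.2, hNw z.1 z.2⟩ : {b : R // φ b = b ∧ σ b = b ^ m})) :=
          Function.Injective.bijective_of_nat_card_le
            (fun z z' e => Subtype.ext (congrArg Subtype.val e :)) (by rw [hN, Nat.card_zpowers, hn0]; exact H.line)
        obtain ⟨z, hz⟩ := hbij.2 ⟨b, hb, hbm⟩
        rw [← show z.1 = b from congrArg Subtype.val hz]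
        exact z.2
      have hB : ∀ u, φ u = u → ∃ a, σ a = a ∧ π u = π a := by
        intro u hu
        obtain ⟨a, b, rfl, ha, hb, hbm⟩ := H.fix_split u hu
        exact ⟨a, ha, (hπ _ _).2 (by
          rw [mul_inv_rev, mul_assoc, inv_mul_cancel, mul_one]; exact inv_mem (hline b hb hbm))⟩
      have comma : ∀ q, φb q = q → ∀ a, σb a = a → Commute a q := by
        intro q hq a ha
        obtain ⟨x, rfl⟩ := hπs q
        obtain ⟨y, rfl⟩ := hπs a
        obtain ⟨a0, ha0, ea⟩ := liftfix y ha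
        rw [← ea]
        rw [hφb, eq_comm, hπ] at hq
        set z := x⁻¹ * φ x with hz
        have e : φ x = x * z := (mul_inv_cancel_left x (φ x)).symm
        have hzc := mem_center_iff.1 (hNc hq)
        have hu : φ ((x ^ m)⁻¹ * σ x) = (x ^ m)⁻¹ * σ x := by
          rw [map_mul, map_inv, map_pow, ← H.comm, e, map_mul, hNw _ hq, (show Commute x z from hzc x).mul_pow,
            mul_inv_rev, mul_assoc, mem_center_iff.1 (pow_mem (hNc hq) m) (σ x), ← mul_assoc (x ^ m)⁻¹,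
            mem_center_iff.1 (pow_mem (hNc hq) m) (x ^ m)⁻¹, mul_assoc, inv_mul_cancel_left]
        obtain ⟨a1, ha1, e1⟩ := hB _ hu
        have eσ : π (σ x) = π x ^ m * π a1 := by rw [← e1, ← map_pow, ← map_mul, mul_inv_cancel_left]
        have hconj : φ (x * a0 * x⁻¹) = x * a0 * x⁻¹ := by
          rw [map_mul, map_mul, map_inv, e, H.fixσ a0 ha0, mul_inv_rev]
          calc x * z * a0 * (z⁻¹ * x⁻¹) = x * (z * a0) * z⁻¹ * x⁻¹ := by group
            _ = x * a0 * x⁻¹ := by rw [← hzc a0]; group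
        obtain ⟨a2, ha2, e2⟩ := hB _ hconj
        have e3 : π (σ (x * a0 * x⁻¹)) = π (x * a0 * x⁻¹) := by rw [← hσb, e2, hσb, ha2]
        rw [map_mul σ, map_mul σ, map_inv σ, ha0, map_mul π, map_mul π, map_inv π, eσ, map_mul π, map_mul π,
          map_inv π] at e3
        have hc1 : Commute (π a1) (π a0) := (H.fix_comm a1 a0 (H.fixσ a1 ha1) (H.fixσ a0 ha0)).map π
        rw [show π x ^ m * π a1 * π a0 * (π x ^ m * π a1)⁻¹ = π x ^ m * (π a1 * π a0 * (π a1)⁻¹) * (π x ^ m)⁻¹ by group,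
          hc1.eq, mul_inv_cancel_right, show m = (m - 1) + 1 from (Nat.sub_add_cancel (by have := M.two; omega)).symm,
          pow_succ'] at e3
        have h4 : π x ^ (m - 1) * π a0 * (π x ^ (m - 1))⁻¹ = π a0 := by
          refine mul_left_cancel (a := π x) (mul_right_cancel (b := (π x)⁻¹) ?_)
          refine Eq.trans ?_ e3
          group
        obtain ⟨c, hc⟩ := M.root hRb (π x)
        rw [← hc]
        exact ((show Commute (π x ^ (m - 1)) (π a0) from mul_inv_eq_iff_eq_mul.1 h4).symm).pow_right c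
      have zinj : ∀ q q', φb q = q → σb q = q ^ m → φb q' = q' → σb q' = q' ^ m → ∀ x x',
          π x = q → π x' = q' → x⁻¹ * φ x = x'⁻¹ * φ x' → q = q' := by
        intro q q' hq hqm hq' hqm' x x' ex ex' ez
        subst ex ex'
        have hzc : x⁻¹ * φ x ∈ center R := hNc ((hπ _ _).1 (by rw [← hφb, hq]))
        have hfix' : φ (x' * x⁻¹) = x' * x⁻¹ := by
          rw [map_mul, map_inv, show φ x' = x' * (x'⁻¹ * φ x') from (mul_inv_cancel_left _ _).symm, ← ez,
            show φ x = x * (x⁻¹ * φ x) from (mul_inv_cancel_left _ _).symm, inv_mul_cancel_left, mul_inv_rev]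
          group
        obtain ⟨a, ha, e1⟩ := hB _ hfix'
        rw [map_mul, map_inv, mul_inv_eq_iff_eq_mul] at e1
        have hc := comma _ hq (π a) (by rw [hσb, ha])
        rw [e1, map_mul, hσb a, ha, hqm, hc.mul_pow, mul_left_inj] at hqm'
        have : π a = 1 := M.eq_one hRb M.m1 (by
          rw [← mul_right_inj (π a), ← pow_succ', Nat.sub_add_cancel (by have := M.two; omega), mul_one]
          exact hqm'.symm)
        rw [e1, this, one_mul]
      have hcard : Nat.card {b : R ⧸ N // φb b = b ∧ σb b = b ^ m} ≤ l := by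
        choose rep hrep using hπs
        let g : {b : R ⧸ N // φb b = b ∧ σb b = b ^ m} → N := fun b =>
          ⟨(rep b.1)⁻¹ * φ (rep b.1), (hπ _ _).1 (by rw [← hφb, hrep, b.2.1])⟩
        calc Nat.card {b : R ⧸ N // φb b = b ∧ σb b = b ^ m} ≤ Nat.card N :=
              Nat.card_le_card_of_injective g fun b b' e => Subtype.ext
                (zinj _ _ b.2.1 b.2.2 b'.2.1 b'.2.2 _ _ (hrep _) (hrep _) (congrArg Subtype.val e))
          _ = l := by rw [hN, Nat.card_zpowers, hn0]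
      refine ⟨fun q hq => ?_, fun a b ha hb _ => comma b hb a ha, fun b b' hb hbm hb' hbm' => ?_, hcard⟩
      · obtain ⟨x, rfl⟩ := hπs q
        have hq0 := hq
        rw [hφb, eq_comm, hπ] at hq
        set z := x⁻¹ * φ x
        have e : φ x = x * z := (mul_inv_cancel_left x (φ x)).symm
        have hzc := mem_center_iff.1 (hNc hq)
        have hu : φ ((x ^ m)⁻¹ * σ x) = (x ^ m)⁻¹ * σ x := by
          rw [map_mul, map_inv, map_pow, ← H.comm, e, map_mul, hNw _ hq, (show Commute x z from hzc x).mul_pow,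
            mul_inv_rev, mul_assoc, mem_center_iff.1 (pow_mem (hNc hq) m) (σ x), ← mul_assoc (x ^ m)⁻¹,
            mem_center_iff.1 (pow_mem (hNc hq) m) (x ^ m)⁻¹, mul_assoc, inv_mul_cancel_left]
        obtain ⟨a1, ha1, e1⟩ := hB _ hu
        have eσ : σb (π x) = π x ^ m * π a1 := by rw [hσb, ← e1, ← map_pow, ← map_mul, mul_inv_cancel_left]
        have ha1' : σb (π a1) = π a1 := by rw [hσb, ha1]
        obtain ⟨c, hc⟩ := M.shift hRb (π a1)
        have hcx : Commute (π a1) (π x) := comma _ hq0 _ ha1'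
        refine ⟨(π a1 ^ c)⁻¹, π a1 ^ c * π x, (inv_mul_cancel_left _ _).symm, by rw [map_inv, map_pow, ha1'], ?_, ?_⟩
        · rw [map_mul, map_pow, hφb a1, H.fixσ a1 ha1, hq0]
        · rw [map_mul, map_pow, ha1', eσ, (hcx.pow_left c).mul_pow, ← hc, ← (hcx.pow_right m).eq]
          group
      · by_cases h1 : b = 1
        · rw [h1]; exact Commute.one_left _
        obtain ⟨x, rfl⟩ := hπs b
        obtain ⟨x', rfl⟩ := hπs b'
        have hz : x⁻¹ * φ x ∈ N := (hπ _ _).1 (by rw [← hφb, hb])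
        have hz' : x'⁻¹ * φ x' ∈ N := (hπ _ _).1 (by rw [← hφb, hb'])
        have hz1 : x⁻¹ * φ x ≠ 1 := fun e => h1 (zinj _ _ hb hbm (map_one φb) (by rw [map_one, one_pow]) x 1 rfl
          (map_one π) (by rw [e, inv_one, one_mul, map_one]))
        have hgen : zpowers (x⁻¹ * φ x) = N := by
          refine eq_of_le_of_card_ge (zpowers_le.2 hz) ?_
          rw [hN, Nat.card_zpowers, Nat.card_zpowers]
          have hd : orderOf (x⁻¹ * φ x) ∣ l := by
            have := N.orderOf_dvd_natCard hz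
            rwa [hN, Nat.card_zpowers, hn0] at this
          rcases (Nat.dvd_prime M.hl).1 hd with h | h
          · exact absurd (orderOf_eq_one_iff.1 h) hz1
          · rw [h, hn0]
        obtain ⟨i, hi⟩ := mem_powers_iff_mem_zpowers.2 (hgen ▸ hz' : x'⁻¹ * φ x' ∈ zpowers (x⁻¹ * φ x))
        change (x⁻¹ * φ x) ^ i = x'⁻¹ * φ x' at hi
        have hcx : Commute x (x⁻¹ * φ x) := mem_center_iff.1 (hNc hz) x
        have e := zinj _ _ hb' hbm' (show φb (π x ^ i) = π x ^ i by rw [map_pow, hb])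
          (show σb (π x ^ i) = (π x ^ i) ^ m by rw [map_pow, hbm, ← pow_mul, ← pow_mul, mul_comm])
          x' (x ^ i) rfl (map_pow π x i) (by
            rw [← hi, map_pow φ, show φ x = x * (x⁻¹ * φ x) from (mul_inv_cancel_left _ _).symm, hcx.mul_pow,
              inv_mul_cancel_left, inv_mul_cancel_left])
        rw [e]
        exact Commute.self_pow _ _
  obtain ⟨hsplit, hcab, hcbb, hcard⟩ := hfix
  have Hb : WHyp (R ⧸ N) l d m σb φb :=
    { hR := hRb
      comm := fun q => by obtain ⟨x, rfl⟩ := hπs q; rw [hφb, hσb, hσb, hφb, H.comm]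
      hσ := hσbd
      hm := fun q => by obtain ⟨x, rfl⟩ := hπs q; rw [← map_pow, H.hm]
      hφ := hφbd
      fixσ := fun q hq => by
        obtain ⟨x, rfl⟩ := hπs q
        obtain ⟨a, ha, e⟩ := liftfix x hq
        rw [← e, hφb, H.fixσ a ha]
      fix_comm := fun p q hp hq => by
        obtain ⟨a, b, rfl, ha, hb, hbm⟩ := hsplit p hp
        obtain ⟨a', b', rfl, ha', hb', hbm'⟩ := hsplit q hq
        have haa : Commute a a' := by
          obtain ⟨x, rfl⟩ := hπs a
          obtain ⟨x', rfl⟩ := hπs a'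
          obtain ⟨y, hy, ey⟩ := liftfix x ha
          obtain ⟨y', hy', ey'⟩ := liftfix x' ha'
          rw [← ey, ← ey']
          exact (H.fix_comm y y' (H.fixσ y hy) (H.fixσ y' hy')).map π
        exact (haa.mul_right (hcab a b' ha hb' hbm')).mul_left
          ((hcab a' b ha' hb hbm).symm.mul_right (hcbb b b' hb hbm hb' hbm'))
      fix_split := hsplit
      line := hcard }
  have hlt : Nat.card (R ⧸ N) < n := by
    rw [← hn, N.card_eq_card_quotient_mul_card_subgroup]
    refine lt_mul_of_one_lt_right Nat.card_pos ?_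
    rw [hN, Nat.card_zpowers, hn0]
    exact M.hl.one_lt
  obtain ⟨Tb, hTb, hTbc, hTbd⟩ := ih _ hlt (R ⧸ N) σb φb rfl Hb
  set Th : Subgroup R := Tb.comap π with hTh
  have memTh : ∀ {x}, x ∈ Th → ∃ z ∈ N, σ x = x ^ m * z := fun {x} hx => by
    have e := (hTb _).1 (mem_comap.1 hx)
    rw [hσb, ← map_pow, eq_comm, hπ] at e
    exact ⟨_, e, (mul_inv_cancel_left _ _).symm⟩
  have hThc : ∀ x ∈ Th, ∀ y ∈ Th, Commute x y := by
    intro x hx y hy
    obtain ⟨c, hc⟩ : ∃ c, c = x * y * x⁻¹ * y⁻¹ := ⟨_, rfl⟩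
    have hcN : c ∈ N := by
      have e : π (x * y) = π (y * x) := by rw [map_mul, map_mul]; exact (hTbc _ hx _ hy).eq
      rw [hπ] at e
      have h : x * y * ((x * y)⁻¹ * (y * x))⁻¹ * (x * y)⁻¹ = c := by rw [hc]; group
      exact h ▸ hNn.conj_mem _ (inv_mem e) (x * y)
    have hxy : x * y = c * (y * x) := by rw [hc]; group
    obtain ⟨z1, hz1, e1⟩ := memTh hx
    obtain ⟨z2, hz2, e2⟩ := memTh hy
    have h1 := congrArg σ hxy
    rw [map_mul, map_mul, map_mul, e1, e2, hNw c hcN,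
      show x ^ m * z1 * (y ^ m * z2) = x ^ m * (z1 * y ^ m) * z2 by group, ← mem_center_iff.1 (hNc hz1) (y ^ m),
      show x ^ m * (y ^ m * z1) * z2 = x ^ m * y ^ m * (z1 * z2) by group,
      show y ^ m * z2 * (x ^ m * z1) = y ^ m * (z2 * x ^ m) * z1 by group, ← mem_center_iff.1 (hNc hz2) (x ^ m),
      show y ^ m * (x ^ m * z2) * z1 = y ^ m * x ^ m * (z2 * z1) by group, ← mem_center_iff.1 (hNc hz1) z2,
      mem_center_iff.1 (hNc hz1) z2, ← mul_assoc (c ^ p), mul_left_inj, comm_pow_pow (hNc hcN) hxy, mul_left_inj] at h1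
    have hc1 : c = 1 := by
      have h2 : ∀ j, j ≤ m * m → c ^ (m * m) = c ^ j → c ^ (m * m - j) = 1 := fun j hj e => by
        rw [← Nat.sub_add_cancel hj, pow_add] at e
        exact mul_eq_right.1 e
      rcases hp with rfl | rfl
      · exact M.eq_one H.hR M.m2 (h2 1 (by have := M.two; nlinarith) h1)
      · refine M.eq_one H.hR ?_ (h2 m (Nat.le_mul_self m) h1)
        rw [← Nat.mul_sub_one]
        exact fun hd => (M.hl.dvd_mul.1 hd).elim M.ml M.m1
    show x * y = y * x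
    rw [hxy, hc1, one_mul]
  let T : Subgroup R :=
    { carrier := {x | σ x = x ^ m}
      one_mem' := show σ 1 = 1 ^ m by rw [map_one, one_pow]
      mul_mem' := fun {x y} hx hy => by
        have hx' : x ∈ Th := (hTb _).2 (by rw [hσb, hx, map_pow])
        have hy' : y ∈ Th := (hTb _).2 (by rw [hσb, hy, map_pow])
        show σ (x * y) = (x * y) ^ m
        rw [map_mul, hx, hy, (hThc x hx' y hy').mul_pow]
      inv_mem' := fun {x} hx => by show σ x⁻¹ = x⁻¹ ^ m; rw [map_inv, hx, inv_pow] }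
  have hTTh : ∀ x, σ x = x ^ m → x ∈ Th := fun x hx => (hTb _).2 (by rw [hσb, hx, map_pow])
  refine ⟨T, fun x => Iff.rfl, fun x hx y hy => hThc x (hTTh x hx) y (hTTh y hy), fun x => ?_⟩
  obtain ⟨tb, htb, ab, hab, e⟩ := hTbd (π x)
  obtain ⟨a0, rfl⟩ := hπs ab
  obtain ⟨a, ha, ea⟩ := liftfix a0 hab
  rw [← ea] at e
  have hy : x * a⁻¹ ∈ Th := by
    rw [hTh, mem_comap, map_mul, map_inv, e, mul_inv_cancel_right]; exact htb
  obtain ⟨z, hz, ez⟩ := memTh hy
  rcases hp with rfl | rfl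
  · obtain ⟨c, hc⟩ := M.shift H.hR z
    have hzf : σ z = z := by rw [hNw z hz, pow_one]
    refine ⟨x * a⁻¹ * z ^ c, ?_, (z ^ c)⁻¹ * a, by rw [map_mul, map_inv, map_pow, hzf, ha],
      by group⟩
    show σ _ = _
    rw [map_mul, map_pow, hzf, ez, (show Commute (x * a⁻¹) (z ^ c) from mem_center_iff.1 (pow_mem (hNc hz) c) _).mul_pow,
      ← hc, mul_assoc]
  · refine ⟨x * a⁻¹, ?_, a, ha, (inv_mul_cancel_right x a).symm⟩
    show σ _ = _
    rw [ez, H.weight_of_mul M ez (hNw z hz) (mem_center_iff.1 (hNc hz) _), mul_one]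

end Cfsg.Agent.Walter.JR.LT
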